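import Cfsg.Agent.Lib.ThreeOrders.Basic
import Cfsg.Agent.Lib.AutPSL.Main
import Cfsg.Agent.Lib.AutPSL.Classes
import Cfsg.Agent.Lib.AutPSL.Descent
import Cfsg.Agent.Lib.CITSuzuki.Orders

/-!
# Subgroups of `Aut PSL₂(q)` over the inner automorphisms

* `exists_field` : from a square determinant, a pure field automorphism;
* `four_dvd_of_nonsquare` : a nonsquare determinant gives an order divisible by four when two is
  a nonsquare and the field degree is odd;
* `inner_of_prime_field` : everything is inner if no field automorphism of prime order occurs.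

Owner: helper73.
-/

set_option autoImplicit false
set_option linter.style.haveILetI false
set_option linter.unusedSectionVars false

namespace Cfsg.Agent.Lib.ThreeOrders.AutTwo

open Matrix Cfsg.Agent.Lib.AutPSL

variable {F : Type} [Field F]

local notation "SL2" => Matrix.SpecialLinearGroup (Fin 2) F
local notation "P2" => Matrix.ProjectiveSpecialLinearGroup (Fin 2) F
local notation "GL2" => GL (Fin 2) F

/-! ### Special elements -/

/-- The Weyl element. -/
def wSL : SL2 := ⟨!![0, 1; -1, 0], by simp [Matrix.det_fin_two]⟩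

/-- An element of order three. -/
def zSL : SL2 := ⟨!![0, 1; -1, -1], by simp [Matrix.det_fin_two]⟩

/-- The transvections. -/
def uSL (a : F) : SL2 := ⟨!![1, a; 0, 1], by simp [Matrix.det_fin_two]⟩

theorem mk_ne_one {s : SL2} (h : (s : Matrix (Fin 2) (Fin 2) F) 0 1 ≠ 0) :
    (QuotientGroup.mk s : P2) ≠ 1 := by
  rw [Ne, QuotientGroup.eq_one_iff, Matrix.SpecialLinearGroup.mem_center_iff]
  rintro ⟨r, -, hr⟩
  exact h (by rw [← hr]; simp)

theorem orderOf_w : orderOf (QuotientGroup.mk wSL : P2) = 2 := by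
  haveI : Fact (Nat.Prime 2) := ⟨Nat.prime_two⟩
  refine orderOf_eq_prime ?_ (mk_ne_one (by simp [wSL]))
  rw [← QuotientGroup.mk_pow, QuotientGroup.eq_one_iff, Matrix.SpecialLinearGroup.mem_center_iff]
  refine ⟨-1, by simp, ?_⟩
  rw [Matrix.SpecialLinearGroup.coe_pow, pow_two]
  ext i j; fin_cases i <;> fin_cases j <;> simp [wSL, Matrix.mul_apply, Fin.sum_univ_two]

theorem orderOf_z : orderOf (QuotientGroup.mk zSL : P2) = 3 := by
  haveI : Fact (Nat.Prime 3) := ⟨Nat.prime_three⟩
  refine orderOf_eq_prime ?_ (mk_ne_one (by simp [zSL]))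
  rw [← QuotientGroup.mk_pow]
  have : (zSL : SL2) ^ 3 = 1 := by
    refine Subtype.ext ?_
    rw [Matrix.SpecialLinearGroup.coe_pow, Matrix.SpecialLinearGroup.coe_one, pow_succ, pow_two]
    ext i j; fin_cases i <;> fin_cases j <;> simp [zSL, Matrix.mul_apply, Fin.sum_univ_two]
  rw [this, QuotientGroup.mk_one]

theorem uSL_mul (a b : F) : uSL a * uSL b = uSL (a + b) := by
  refine Subtype.ext ?_
  rw [Matrix.SpecialLinearGroup.coe_mul]
  ext i j; fin_cases i <;> fin_cases j <;> simp [uSL, Matrix.mul_apply, Fin.sum_univ_two, add_comm]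

theorem mk_u_ne_one {a : F} (ha : a ≠ 0) : (QuotientGroup.mk (uSL a) : P2) ≠ 1 :=
  mk_ne_one (by simpa [uSL] using ha)

theorem fieldSL_u (σ : F ≃+* F) (a : F) : fieldSL σ (uSL a) = uSL (σ a) := by
  refine Subtype.ext ?_
  rw [coe_fieldSL]
  ext i j; fin_cases i <;> fin_cases j <;> simp [uSL]

theorem fieldSL_w (σ : F ≃+* F) : fieldSL σ (wSL : SL2) = wSL := by
  refine Subtype.ext ?_
  rw [coe_fieldSL]
  ext i j; fin_cases i <;> fin_cases j <;> simp [wSL]

theorem fieldSL_z (σ : F ≃+* F) : fieldSL σ (zSL : SL2) = zSL := by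
  refine Subtype.ext ?_
  rw [coe_fieldSL]
  ext i j; fin_cases i <;> fin_cases j <;> simp [zSL]

theorem commute_fixed {σ : F ≃+* F} {s : SL2} (hs : fieldSL σ s = s) :
    Commute (fieldAut σ : MulAut P2) (MulAut.conj (QuotientGroup.mk s : P2)) := by
  refine MulEquiv.ext fun x => ?_
  simp only [MulAut.mul_apply, MulAut.conj_apply, map_mul, map_inv, fieldAut_mk, hs]

/-! ### Determinants -/

section Fin

variable [Fintype F]

theorem isSquare_apply (σ : F ≃+* F) (b : F) : IsSquare (σ b) ↔ IsSquare b :=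
  ⟨fun h => by simpa using h.map σ.symm, fun h => h.map σ⟩

theorem isSquare_mul_iff {a b : F} (ha : ¬ IsSquare a) (hb : b ≠ 0) :
    IsSquare (a * b) ↔ ¬ IsSquare b := by
  classical
  have ha0 : a ≠ 0 := fun e => ha (e ▸ IsSquare.zero)
  rw [← quadraticChar_one_iff_isSquare (mul_ne_zero ha0 hb), ← quadraticChar_neg_one_iff_not_isSquare,
    map_mul, quadraticChar_neg_one_iff_not_isSquare.2 ha, neg_one_mul, neg_eq_iff_eq_neg]

theorem isSquare_det_tnorm {σ : F ≃+* F} {A : GL2}
    (hA : ¬ IsSquare ((GeneralLinearGroup.det A : Fˣ) : F)) :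
    ∀ k : ℕ, IsSquare ((GeneralLinearGroup.det (tnorm (mapGL σ) A k) : Fˣ) : F) ↔ Even k
  | 0 => by simp
  | k + 1 => by
    rw [tnorm_succ, map_mul, det_mapGL, Units.val_mul, coe_mapUnits,
      isSquare_mul_iff hA ((map_ne_zero σ).2 (Units.ne_zero _)), isSquare_apply, isSquare_det_tnorm hA k, Nat.even_add_one]

/-- The matrix `[[1, 1], [-1, 1]]`. -/
def mMat (h2 : (2 : F) ≠ 0) : GL2 :=
  GeneralLinearGroup.mkOfDetNeZero !![1, 1; -1, 1] (by rw [Matrix.det_fin_two]; simpa [one_add_one_eq_two] using h2)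

theorem orderOf_mMat (h2 : (2 : F) ≠ 0) : orderOf (conjAut (mMat h2) : MulAut P2) = 4 := by
  haveI : Fact (Nat.Prime 2) := ⟨Nat.prime_two⟩
  refine orderOf_eq_prime_pow (p := 2) (n := 1) (fun e => ?_) ?_
  · rw [pow_one, ← map_pow] at e
    obtain ⟨c, hc⟩ := exists_scalar_of_conjAut_eq_one le_rfl e
    have := congrArg (fun x : GL2 => (x : Matrix (Fin 2) (Fin 2) F) 0 1) hc
    simp [mMat, pow_two, one_add_one_eq_two] at this
    exact h2 this
  · rw [← map_pow]
    refine conjAut_eq_one_of_center (mem_center_GL_of_scalar (c := -4) ?_)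
    ext i j
    fin_cases i <;> fin_cases j <;> simp [mMat, pow_succ] <;> ring

variable {G : Type*} [Group G] [Finite G] (Φ : G →* MulAut (Matrix.ProjectiveSpecialLinearGroup (Fin 2) F))
  (hinj : Function.Injective Φ)
  (hinn : ∀ x : Matrix.ProjectiveSpecialLinearGroup (Fin 2) F, ∃ g : G, Φ g = MulAut.conj x)
include hinj hinn

theorem exists_field {g : G} {A : GL2} {σ : F ≃+* F} (hg : Φ g = conjAut A * fieldAut σ)
    (hA : IsSquare ((GeneralLinearGroup.det A : Fˣ) : F)) :
    ∃ (x : P2) (g' : G), Φ g' = fieldAut σ ∧ Φ g = MulAut.conj x * Φ g' := by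
  obtain ⟨c, hc⟩ := hA
  have hc0 : c ≠ 0 := fun e => (GeneralLinearGroup.det A).ne_zero (by rw [hc, e, mul_zero])
  let s : SL2 := ⟨c⁻¹ • (A : Matrix (Fin 2) (Fin 2) F), by
    rw [det_smul, Fintype.card_fin, ← GeneralLinearGroup.val_det_apply, hc]; field_simp⟩
  have hs : A = GeneralLinearGroup.scalar (Fin 2) (Units.mk0 c hc0) * Matrix.SpecialLinearGroup.toGL s := by
    refine Units.ext ?_
    rw [Units.val_mul]
    show (A : Matrix (Fin 2) (Fin 2) F) = scalar (Fin 2) c * (c⁻¹ • (A : Matrix (Fin 2) (Fin 2) F))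
    rw [scalar_apply, ← smul_one_eq_diagonal, Matrix.smul_mul, Matrix.one_mul, smul_smul,
      mul_inv_cancel₀ hc0, one_smul]
  have hA' : (conjAut A : MulAut P2) = MulAut.conj (QuotientGroup.mk s : P2) := by
    rw [hs, map_mul, conjAut_scalar, one_mul, conjAut_toGL]
  obtain ⟨k, hk⟩ := hinn (QuotientGroup.mk s : P2)
  exact ⟨QuotientGroup.mk s, k⁻¹ * g, by rw [map_mul, map_inv, hk, hg, hA', inv_mul_cancel_left],
    by rw [map_mul, map_inv, hk, mul_inv_cancel_left]⟩

/-- A nonsquare determinant gives an element of order four. -/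
theorem four_dvd_of_nonsquare (h2 : ¬ IsSquare (2 : F)) (hdeg : Odd (Nat.card (F ≃+* F))) {g : G}
    {A : GL2} {σ : F ≃+* F} (hg : Φ g = conjAut A * fieldAut σ)
    (hA : ¬ IsSquare ((GeneralLinearGroup.det A : Fˣ) : F)) : ∃ x : G, orderOf x = 4 := by
  have h20 : (2 : F) ≠ 0 := fun e => h2 (e ▸ IsSquare.zero)
  set k := orderOf σ with hk
  have hodd : Odd k := hdeg.of_dvd_nat (orderOf_dvd_natCard σ)
  have hgk : Φ (g ^ k) = conjAut (tnorm (mapGL σ) A k) := by
    rw [map_pow, hg, conjAut_mul_fieldAut_pow, pow_orderOf_eq_one, map_one, mul_one]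
  have hns : ¬ IsSquare ((GeneralLinearGroup.det (tnorm (mapGL σ) A k) : Fˣ) : F) := fun h =>
    Nat.not_even_iff_odd.2 hodd ((isSquare_det_tnorm hA k).1 h)
  set B := tnorm (mapGL σ) A k * (mMat h20)⁻¹ with hB
  have hBsq : IsSquare ((GeneralLinearGroup.det B : Fˣ) : F) := by
    rw [hB, map_mul, map_inv, Units.val_mul, isSquare_mul_iff hns (Units.ne_zero _), Units.val_inv_eq_inv_val,
      isSquare_inv]
    simpa [mMat, Matrix.det_fin_two, one_add_one_eq_two] using h2
  obtain ⟨m, hm⟩ : ∃ m : G, Φ m = conjAut (mMat h20) := by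
    obtain ⟨c, hc⟩ := hBsq
    have hc0 : c ≠ 0 := fun e => (GeneralLinearGroup.det B).ne_zero (by rw [hc, e, mul_zero])
    let s : SL2 := ⟨c⁻¹ • (B : Matrix (Fin 2) (Fin 2) F), by
      rw [det_smul, Fintype.card_fin, ← GeneralLinearGroup.val_det_apply, hc]; field_simp⟩
    have hs : B = GeneralLinearGroup.scalar (Fin 2) (Units.mk0 c hc0) * Matrix.SpecialLinearGroup.toGL s := by
      refine Units.ext ?_
      rw [Units.val_mul]
      show (B : Matrix (Fin 2) (Fin 2) F) = scalar (Fin 2) c * (c⁻¹ • (B : Matrix (Fin 2) (Fin 2) F))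
      rw [scalar_apply, ← smul_one_eq_diagonal, Matrix.smul_mul, Matrix.one_mul, smul_smul,
        mul_inv_cancel₀ hc0, one_smul]
    obtain ⟨l, hl⟩ := hinn (QuotientGroup.mk s : P2)
    refine ⟨l⁻¹ * g ^ k, ?_⟩
    have hB' : (conjAut B : MulAut P2) = MulAut.conj (QuotientGroup.mk s : P2) := by
      rw [hs, map_mul, conjAut_scalar, one_mul, conjAut_toGL]
    rw [map_mul, map_inv, hl, hgk, ← hB', hB, map_mul, map_inv, _root_.mul_inv_rev, inv_inv, mul_assoc,
      inv_mul_cancel, mul_one]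
  exact ⟨m, by rw [← orderOf_injective Φ hinj m, hm, orderOf_mMat]⟩

/-- If no field automorphism of prime order is induced and all determinants are squares, everything is
inner. -/
theorem inner_of_prime_field
    (hdet : ∀ (g : G) (A : GL2) (σ : F ≃+* F), Φ g = conjAut A * fieldAut σ →
      IsSquare ((GeneralLinearGroup.det A : Fˣ) : F))
    (hprime : ∀ (g : G) (τ : F ≃+* F) (l : ℕ), l.Prime → orderOf τ = l → orderOf g = l →
      Φ g = fieldAut τ → False) (g : G) : ∃ x : P2, Φ g = MulAut.conj x := by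
  obtain ⟨A, σ, γ, hγ, hg⟩ := exists_decomp le_rfl (Φ g)
  obtain rfl : γ = 1 := hγ.resolve_right fun h => absurd h.1 (by norm_num)
  rw [mul_one] at hg
  obtain ⟨x, g', hg', hgx⟩ := exists_field Φ hinj hinn hg (hdet g A σ hg)
  by_cases hσ : σ = 1
  · exact ⟨x, by rw [hgx, hg', hσ, map_one, mul_one]⟩
  exfalso
  haveI : Finite (F ≃+* F) := Finite.of_injective _ DFunLike.coe_injective
  obtain ⟨l, hl, hld⟩ := Nat.exists_prime_and_dvd (fun e => hσ (orderOf_eq_one_iff.1 e) : orderOf σ ≠ 1)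
  have ho := orderOf_pow_orderOf_div (orderOf_pos σ).ne' hld
  refine hprime (g' ^ (orderOf σ / l)) _ l hl ho ?_ (by rw [map_pow, hg', map_pow])
  rw [← orderOf_injective Φ hinj, map_pow, hg', ← map_pow,
    orderOf_injective (fieldAut : (F ≃+* F) →* MulAut P2) (fieldAut_injective le_rfl), ho]

end Fin

end Cfsg.Agent.Lib.ThreeOrders.AutTwo
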