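import Cfsg.Agent.Lib.OneComposite.Basic
import Cfsg.Agent.Lib.CITReduce.Basic

/-!
# Groups in which no prime divides three distinct element orders: basic facts

* `H3` : the hypothesis; it passes to subgroups and quotients;
* `H3.two_of_order` : an element of order `2p` gives `OneComposite.Two p`;
* `H3.cit_or_noFour` : either involution centralizers are 2-groups, or no order is divisible by four;
* `H3.sc` : involution centralizers are solvable;
* `socle` : a simple socle from trivial solvable radical.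

Owner: helper73.
-/

set_option autoImplicit false
set_option linter.style.haveILetI false
set_option linter.unusedSectionVars false

namespace Cfsg.Agent.Lib.ThreeOrders

open Subgroup

/-- No prime divides three distinct element orders. -/
def H3 (G : Type*) [Group G] : Prop :=
  ∀ p : ℕ, p.Prime → ∀ a b c : G, orderOf a ≠ orderOf b → orderOf b ≠ orderOf c → orderOf a ≠ orderOf c →
    ¬ (p ∣ orderOf a ∧ p ∣ orderOf b ∧ p ∣ orderOf c)

/-- No element order is divisible by four. -/
def NoFour (G : Type*) [Group G] : Prop := ∀ g : G, ¬ 4 ∣ orderOf g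

/-- Solvable involution centralizers. -/
def SC (G : Type*) [Group G] : Prop :=
  ∀ t : G, orderOf t = 2 → Group.IsSolvable (centralizer ({t} : Set G))

variable {G : Type*} [Group G] [Finite G]

theorem H3.false_of (h : H3 G) {p : ℕ} (hp : p.Prime) {x y z : G} {a b c : ℕ} (ha : a ∣ orderOf x)
    (hb : b ∣ orderOf y) (hc : c ∣ orderOf z) (hab : a ≠ b) (hbc : b ≠ c) (hac : a ≠ c) (hpa : p ∣ a)
    (hpb : p ∣ b) (hpc : p ∣ c) : False := by
  obtain ⟨a', ha'⟩ : ∃ g : G, orderOf g = a := ⟨_, orderOf_pow_orderOf_div (orderOf_pos x).ne' ha⟩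
  obtain ⟨b', hb'⟩ : ∃ g : G, orderOf g = b := ⟨_, orderOf_pow_orderOf_div (orderOf_pos y).ne' hb⟩
  obtain ⟨c', hc'⟩ : ∃ g : G, orderOf g = c := ⟨_, orderOf_pow_orderOf_div (orderOf_pos z).ne' hc⟩
  subst ha' hb' hc'
  exact h p hp a' b' c' hab hbc hac ⟨hpa, hpb, hpc⟩

theorem H3.no_eight (h : H3 G) (x : G) : ¬ 8 ∣ orderOf x := fun h8 =>
  h.false_of Nat.prime_two (a := 2) (b := 4) (c := 8) ((show 2 ∣ 8 by norm_num).trans h8)
    ((show 4 ∣ 8 by norm_num).trans h8) h8 (by norm_num) (by norm_num) (by norm_num) (by norm_num)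
    (by norm_num) (by norm_num)

/-- An element order has at most two prime factors. -/
theorem H3.length_of_dvd (h : H3 G) {g : G} {n : ℕ} (hd : n ∣ orderOf g) :
    n.primeFactorsList.length ≤ 2 := by
  have hn : n ≠ 0 := fun e => (orderOf_pos g).ne' (by rw [e] at hd; exact Nat.eq_zero_of_zero_dvd hd)
  rcases hl : n.primeFactorsList with _ | ⟨p, _ | ⟨q, _ | ⟨r, l⟩⟩⟩
  · simp
  · simp
  · simp
  exfalso
  have hprod := Nat.prod_primeFactorsList hn
  have hmem : ∀ s ∈ n.primeFactorsList, Nat.Prime s := fun s hs => Nat.prime_of_mem_primeFactorsList hs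
  rw [hl] at hprod hmem
  simp only [List.prod_cons] at hprod
  have hp := hmem p (by simp)
  have hq := hmem q (by simp)
  have hr := hmem r (by simp)
  have hn' : p * q * r ∣ n := ⟨l.prod, by rw [← hprod]; ring⟩
  refine h.false_of hp (x := g) (y := g) (z := g) ((dvd_mul_right p _).trans (by rwa [mul_assoc] at hn') |>.trans hd)
    ((dvd_mul_right (p * q) r).trans hn' |>.trans hd) (hn'.trans hd) ?_ ?_ ?_ dvd_rfl (dvd_mul_right p q)
    ((dvd_mul_right p q).mul_right r)
  · intro e
    exact hq.ne_one (Nat.eq_of_mul_eq_mul_left hp.pos (e.symm.trans (mul_one p).symm))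
  · intro e
    exact hr.ne_one (Nat.eq_of_mul_eq_mul_left (Nat.mul_pos hp.pos hq.pos) (e.symm.trans (mul_one (p * q)).symm))
  · intro e
    have h1 : q * r = 1 := Nat.eq_of_mul_eq_mul_left hp.pos (by rw [mul_one, ← mul_assoc]; exact e.symm)
    exact hq.ne_one (Nat.eq_one_of_mul_eq_one_right h1)

theorem H3.subgroup (h : H3 G) (H : Subgroup G) : H3 H := fun p hp a b c hab hbc hac => by
  rw [← Subgroup.orderOf_coe a, ← Subgroup.orderOf_coe b, ← Subgroup.orderOf_coe c] at *
  exact h p hp a b c hab hbc hac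

theorem H3.of_surjective (h : H3 G) {Q : Type*} [Group Q] (f : G →* Q) (hf : Function.Surjective f) :
    H3 Q := by
  intro p hp a b c hab hbc hac hd
  obtain ⟨x, rfl⟩ := hf a
  obtain ⟨y, rfl⟩ := hf b
  obtain ⟨z, rfl⟩ := hf c
  exact h.false_of hp (orderOf_map_dvd f x) (orderOf_map_dvd f y) (orderOf_map_dvd f z) hab hbc hac hd.1
    hd.2.1 hd.2.2

theorem H3.quotient (h : H3 G) (N : Subgroup G) [N.Normal] : H3 (G ⧸ N) :=
  h.of_surjective _ (QuotientGroup.mk'_surjective N)

theorem NoFour.subgroup (h : NoFour G) (H : Subgroup G) : NoFour H := fun g hg =>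
  h g (by rwa [Subgroup.orderOf_coe])

theorem NoFour.of_surjective (h : NoFour G) {Q : Type*} [Group Q] (f : G →* Q) (hf : Function.Surjective f) :
    NoFour Q := by
  intro q hq
  obtain ⟨x, rfl⟩ := hf q
  exact h x (hq.trans (orderOf_map_dvd f x))

theorem NoFour.quotient (h : NoFour G) (N : Subgroup G) [N.Normal] : NoFour (G ⧸ N) :=
  h.of_surjective _ (QuotientGroup.mk'_surjective N)

theorem H3.two_of_order (h : H3 G) {p : ℕ} (hp : p.Prime) (hp2 : p ≠ 2) {x : G}
    (hx : orderOf x = 2 * p) : OneComposite.Two p G := by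
  refine ⟨hp, hp2, ⟨x, hx⟩, fun g => ?_⟩
  by_cases hg : g = 1
  · exact Or.inl hg
  by_cases hgp : (orderOf g).Prime
  · exact Or.inr (Or.inl hgp)
  refine Or.inr (Or.inr ?_)
  by_cases h2 : 2 ∣ orderOf g
  · left
    by_contra hne
    refine h.false_of Nat.prime_two (x := x) (y := x) (z := g) (a := 2) (hx.symm ▸ dvd_mul_right 2 p)
      (dvd_of_eq hx.symm) dvd_rfl ?_ (Ne.symm hne) ?_ dvd_rfl (dvd_mul_right 2 p) h2
    · intro e; have := hp.two_le; omega
    · intro e; exact hgp (e ▸ Nat.prime_two)
  · right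
    refine ⟨Nat.odd_iff.2 (by omega), fun hpd => ?_⟩
    refine h.false_of hp (x := x) (y := x) (z := g) (a := p) (hx.symm ▸ dvd_mul_left p 2)
      (dvd_of_eq hx.symm) dvd_rfl ?_ (fun e => h2 (e ▸ dvd_mul_right 2 p)) ?_ dvd_rfl (dvd_mul_left p 2) hpd
    · intro e; have := hp.pos; omega
    · intro e; exact hgp (e ▸ hp)

theorem H3.cit_or_noFour (h : H3 G) : CIT.IsCIT G ∨ NoFour G := by
  by_cases hex : ∀ p : ℕ, p.Prime → p ≠ 2 → ¬ ∃ x : G, orderOf x = 2 * p
  · exact Or.inl (CITReduce.isCIT_of_forall hex)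
  push Not at hex
  obtain ⟨p, hp, hp2, x, hx⟩ := hex
  exact Or.inr fun g => (h.two_of_order hp hp2 hx).not_four

theorem H3.sc (h : H3 G) : SC G := by
  intro t ht
  by_cases hex : ∀ p : ℕ, p.Prime → p ≠ 2 → ¬ ∃ x : G, orderOf x = 2 * p
  · haveI : Fact (Nat.Prime 2) := ⟨Nat.prime_two⟩
    haveI := (CITReduce.isCIT_of_forall hex t ht).isNilpotent
    infer_instance
  push Not at hex
  obtain ⟨p, hp, hp2, x, hx⟩ := hex
  have h2 := h.two_of_order hp hp2 hx
  exact h2.isSolvable_of_primes fun q hq hd => h2.primes_invol ht hq hd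

theorem NoFour.sq_of_mem (h : NoFour G) {S : Subgroup G} (hS : IsPGroup 2 S) {x : G} (hx : x ∈ S) :
    x * x = 1 := by
  obtain ⟨k, hk⟩ := hS ⟨x, hx⟩
  obtain ⟨j, -, hj⟩ := (Nat.dvd_prime_pow Nat.prime_two).1
    (orderOf_dvd_of_pow_eq_one (by simpa using congrArg Subtype.val hk : x ^ 2 ^ k = 1))
  rcases j with _ | _ | j
  · rw [pow_zero, orderOf_eq_one_iff] at hj
    rw [hj, one_mul]
  · rw [← pow_two, ← (by simpa using hj : orderOf x = 2), pow_orderOf_eq_one]
  · exact absurd ⟨2 ^ j, by rw [hj]; ring⟩ (h x)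

theorem NoFour.comm_of_mem (h : NoFour G) {S : Subgroup G} (hS : IsPGroup 2 S) {x y : G} (hx : x ∈ S)
    (hy : y ∈ S) : x * y = y * x := by
  have hxy := h.sq_of_mem hS (S.mul_mem hx hy)
  calc x * y = (x * y)⁻¹ := (inv_eq_of_mul_eq_one_right hxy).symm
    _ = y * x := by
      rw [mul_inv_rev, inv_eq_of_mul_eq_one_right (h.sq_of_mem hS hx),
        inv_eq_of_mul_eq_one_right (h.sq_of_mem hS hy)]

/-- A nonsolvable group with abelian Sylow 2-subgroups and solvable involution centralizers has
trivial `O₂`. -/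
theorem pCore_eq_bot (h : NoFour G) (hsc : SC G) (hns : ¬ Group.IsSolvable G) :
    Cfsg.pCore 2 G = ⊥ := by
  haveI : Fact (Nat.Prime 2) := ⟨Nat.prime_two⟩
  by_contra hne
  set P := Cfsg.pCore 2 G with hP
  haveI : P.Normal := by rw [hP]; infer_instance
  obtain ⟨T⟩ : Nonempty (Sylow 2 G) := inferInstance
  have hPT : P ≤ (T : Subgroup G) := Cores.pCore_le_sylow T
  obtain ⟨s, hs, hs1⟩ := P.bot_or_exists_ne_one.resolve_left hne
  have hso : orderOf s = 2 := Involutions.Basic.invol_iff.2 ⟨h.sq_of_mem T.2 (hPT hs), hs1⟩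
  set C := centralizer (P : Set G) with hC
  haveI : C.Normal := Subgroup.normal_centralizer
  haveI : Group.IsSolvable C := by
    haveI := hsc s hso
    exact Group.isSolvable_of_isSolvable_injective (f := Subgroup.inclusion
      (show C ≤ centralizer ({s} : Set G) from fun x hx =>
        mem_centralizer_singleton_iff.2 (mem_centralizer_iff.1 hx s hs).symm)) (Subgroup.inclusion_injective _)
  have hTC : (T : Subgroup G) ≤ C := fun x hx => mem_centralizer_iff.2 fun y hy =>
    h.comm_of_mem T.2 (hPT hy) hx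
  have hodd : Odd (Nat.card (G ⧸ C)) := by
    rw [← Subgroup.index_eq_card]
    refine Nat.not_even_iff_odd.1 fun he => T.not_dvd_index (he.two_dvd.trans ?_)
    exact Subgroup.index_dvd_of_le hTC
  haveI : Group.IsSolvable (G ⧸ C) := Cfsg.Agent.S0205.result hodd
  exact hns (Group.isSolvable_of_ker_le_range C.subtype (QuotientGroup.mk' C) (by
    rw [QuotientGroup.ker_mk', Subgroup.range_subtype]))

theorem SC.subgroup (h : SC G) (H : Subgroup G) : SC H := by
  intro t ht
  haveI := h (t : G) (by rw [Subgroup.orderOf_coe, ht])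
  exact Group.isSolvable_of_isSolvable_injective
    (f := (H.subtype.comp (centralizer ({t} : Set H)).subtype).codRestrict _ fun x =>
      mem_centralizer_singleton_iff.2 (congrArg Subtype.val (mem_centralizer_singleton_iff.1 x.2)))
    (fun a b hab => Subtype.ext (Subtype.ext (by simpa using congrArg Subtype.val hab)))

theorem SC.isSolvable_or_of_commute (h : SC G) (A B : Subgroup G) (hc : ∀ a ∈ A, ∀ b ∈ B, Commute a b)
    (hA : ¬ Group.IsSolvable A) : Group.IsSolvable B := by
  by_contra hB
  obtain ⟨b, hb⟩ := CITReduce.exists_involution_of_not_isSolvable hB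
  apply hA
  haveI := h (b : G) (by rw [Subgroup.orderOf_coe, hb])
  exact Group.isSolvable_of_isSolvable_injective
    (f := Subgroup.inclusion (show A ≤ centralizer ({(b : G)} : Set G) from fun a ha =>
      mem_centralizer_singleton_iff.2 (hc a ha b b.2).eq)) (Subgroup.inclusion_injective _)

/-- The simple socle. -/
theorem socle (h : SC G) (hns : ¬ Group.IsSolvable G)
    (hrad : ∀ N : Subgroup G, N.Normal → Group.IsSolvable N → N = ⊥) :
    ∃ S : Subgroup G, S.Normal ∧ IsSimpleGroup S ∧ ¬ IsMulCommutative S ∧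
      centralizer (S : Set G) = ⊥ := by
  haveI : Nontrivial G := by
    by_contra hcon
    rw [not_nontrivial_iff_subsingleton] at hcon
    exact hns inferInstance
  obtain ⟨S, hSn, hS1, hmin⟩ := Cores.MinNormal.exists_minimal (G := G)
  haveI := hSn
  have hSns : ¬ Group.IsSolvable S := fun hs => hS1 (hrad S hSn hs)
  have hC : centralizer (S : Set G) = ⊥ := by
    haveI : (centralizer (S : Set G)).Normal := Subgroup.normal_centralizer
    exact hrad _ inferInstance (h.isSolvable_or_of_commute S _
      (fun a ha b hb => (mem_centralizer_iff.1 hb) a ha) hSns)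
  refine ⟨S, hSn, ?_, fun hm => hSns (haveI := hm; Group.isSolvable_of_comm fun a b => mul_comm' a b), hC⟩
  haveI : Nontrivial S := (Subgroup.nontrivial_iff_ne_bot S).2 hS1
  refine { eq_bot_or_eq_top_of_normal := fun H hH => ?_ }
  haveI := hH
  by_contra hcon
  push Not at hcon
  obtain ⟨M, hMn, hMH, hM1, hMmin⟩ := Cores.MinNormal.exists_minimal_le hcon.1
  haveI := hMn
  have hMns : ¬ Group.IsSolvable M := by
    intro hs
    refine hSns (?_ : Group.IsSolvable S)
    haveI := PrimePowerClass.Radical.solRad_characteristic (G := S)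
    have hR : ((PrimePowerClass.Radical.solRad S).map S.subtype).Normal :=
      ConjAct.normal_of_characteristic_of_normal
    rcases hmin _ hR (Subgroup.map_subtype_le _) with hb | ht
    · exact absurd (le_bot_iff.1 ((PrimePowerClass.Radical.le_solRad hs).trans
        ((Subgroup.map_eq_bot_iff_of_injective _ S.subtype_injective).1 hb).le)) hM1
    · haveI := PrimePowerClass.Radical.solRad_isSolvable (G := S)
      have := Group.isSolvable_of_surjective (S.subtype.subgroupMap_surjective (PrimePowerClass.Radical.solRad S))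
      rwa [ht] at this
  haveI : (centralizer (M : Set S)).Normal := Subgroup.normal_centralizer
  have hCM : Group.IsSolvable (centralizer (M : Set S)) :=
    (h.subgroup S).isSolvable_or_of_commute M _ (fun a ha b hb => (mem_centralizer_iff.1 hb) a ha) hMns
  have hinv : ∀ g : G, M.map (MulAut.conjNormal g : MulAut S).toMonoidHom = M := by
    intro g
    set M' := M.map (MulAut.conjNormal g : MulAut S).toMonoidHom
    haveI : M'.Normal := Subgroup.Normal.map hMn _ (MulAut.conjNormal g : MulAut S).surjective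
    have hMM : M' ⊓ M ≠ ⊥ := fun hb => by
      refine hMns ?_
      have hle : M' ≤ centralizer (M : Set S) := fun x hx => mem_centralizer_iff.2
        fun y hy => Subgroup.commute_of_normal_of_disjoint M M' hMn ‹_› (disjoint_iff.2 (inf_comm M M' ▸ hb)) y x hy hx
      haveI := hCM
      exact Group.isSolvable_of_isSolvable_injective
        (f := (Subgroup.inclusion hle).comp
          (M.equivMapOfInjective _ (MulAut.conjNormal g : MulAut S).injective).toMonoidHom)
        ((Subgroup.inclusion_injective hle).comp (MulEquiv.injective _))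
    have heq : M' ⊓ M = M := (hMmin _ inferInstance inf_le_right).resolve_left hMM
    exact (Subgroup.eq_of_le_of_card_ge (show M ≤ M' from fun x hx => (heq.symm ▸ hx : x ∈ M' ⊓ M).1)
      (Subgroup.card_map_of_injective (MulAut.conjNormal g : MulAut S).injective).le).symm
  have hMG : (M.map S.subtype).Normal := ⟨fun n hn g => by
    obtain ⟨m, hm, rfl⟩ := hn
    exact ⟨MulAut.conjNormal g m, hinv g ▸ ⟨m, hm, rfl⟩, by simp⟩⟩
  rcases hmin _ hMG (Subgroup.map_subtype_le _) with hb | ht
  · exact hM1 ((Subgroup.map_eq_bot_iff_of_injective _ S.subtype_injective).1 hb)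
  · refine hcon.2 (top_le_iff.1 ?_)
    intro x _
    obtain ⟨m, hm, hmx⟩ := (ht.symm ▸ x.2 : (x : G) ∈ M.map S.subtype)
    exact hMH (S.subtype_injective hmx ▸ hm)

end Cfsg.Agent.Lib.ThreeOrders
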