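import Cfsg.Agent.Lib.ThreeOrders.CITTools
import Cfsg.Agent.Lib.ThreeOrders.AutTwo
import Cfsg.Agent.Lib.AutPSL.Out

/-!
# CIT overgroups of `PSL₂(2ⁿ)`, `PSL₂(7)`, `PSL₂(9)`, `PSL₃(4)`

Without elements of order eight the socle is everything.

Owner: helper73.
-/

set_option autoImplicit false
set_option linter.style.haveILetI false
set_option linter.unusedSectionVars false

namespace Cfsg.Agent.Lib.ThreeOrders

open Matrix Cfsg.Agent.Lib.AutPSL

variable {G : Type*} [Group G] [Finite G] {F : Type} [Field F] [Fintype F]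

theorem orderOf_conjAut_diagFirst (u : Fˣ) :
    orderOf (conjAut (diagFirst (F := F) (n := 2) (by norm_num) u) :
      MulAut (Matrix.ProjectiveSpecialLinearGroup (Fin 2) F)) = orderOf u := by
  refine orderOf_injective ((conjAut : GL (Fin 2) F →* _).comp (diagFirst (by norm_num))) ?_ u
  rw [injective_iff_map_eq_one]
  intro z hz
  obtain ⟨c, hc⟩ := exists_scalar_of_conjAut_eq_one le_rfl hz
  have h0 := congrArg (fun x : GL (Fin 2) F => (x : Matrix (Fin 2) (Fin 2) F) 0 0) hc
  have h1 := congrArg (fun x : GL (Fin 2) F => (x : Matrix (Fin 2) (Fin 2) F) 1 1) hc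
  simp [diagFirst] at h0 h1
  exact Units.ext (by rw [h0, ← h1]; rfl)

/-- An element inducing an automorphism with nonsquare determinant can be moved to any such. -/
theorem exists_adjust {Φ : G →* MulAut (Matrix.ProjectiveSpecialLinearGroup (Fin 2) F)}
    (hinn : ∀ x, ∃ g : G, Φ g = MulAut.conj x) {g : G} {A M : GL (Fin 2) F} {σ : F ≃+* F}
    (hg : Φ g = conjAut A * fieldAut σ) (hA : ¬ IsSquare ((GeneralLinearGroup.det A : Fˣ) : F))
    (hM : ¬ IsSquare ((GeneralLinearGroup.det M : Fˣ) : F)) :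
    ∃ g' : G, Φ g' = conjAut M * fieldAut σ := by
  set B := A * M⁻¹ with hB
  obtain ⟨c, hc⟩ : IsSquare ((GeneralLinearGroup.det B : Fˣ) : F) := by
    rw [hB, map_mul, map_inv, Units.val_mul, AutTwo.isSquare_mul_iff hA (Units.ne_zero _),
      Units.val_inv_eq_inv_val, isSquare_inv]
    exact hM
  have hc0 : c ≠ 0 := fun e => (GeneralLinearGroup.det B).ne_zero (by rw [hc, e, mul_zero])
  let s : Matrix.SpecialLinearGroup (Fin 2) F := ⟨c⁻¹ • (B : Matrix (Fin 2) (Fin 2) F), by
    rw [det_smul, Fintype.card_fin, ← GeneralLinearGroup.val_det_apply, hc]; field_simp⟩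
  have hs : B = GeneralLinearGroup.scalar (Fin 2) (Units.mk0 c hc0) * Matrix.SpecialLinearGroup.toGL s := by
    refine Units.ext ?_
    rw [Units.val_mul]
    show (B : Matrix (Fin 2) (Fin 2) F) = scalar (Fin 2) c * (c⁻¹ • (B : Matrix (Fin 2) (Fin 2) F))
    rw [scalar_apply, ← smul_one_eq_diagonal, Matrix.smul_mul, Matrix.one_mul, smul_smul,
      mul_inv_cancel₀ hc0, one_smul]
  obtain ⟨l, hl⟩ := hinn (QuotientGroup.mk s)
  refine ⟨l⁻¹ * g, ?_⟩
  have hB' : (conjAut B : MulAut (Matrix.ProjectiveSpecialLinearGroup (Fin 2) F)) =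
      MulAut.conj (QuotientGroup.mk s) := by
    rw [hs, map_mul, conjAut_scalar, one_mul, conjAut_toGL]
  rw [map_mul, map_inv, hl, hg, ← hB', hB, map_mul, map_inv, _root_.mul_inv_rev, inv_inv]
  group

/-- The socle `PSL₂(q)`, `q` even or `q ∈ {7, 9}`, is the whole group. -/
theorem eq_top_of_psl_two (hcit : CIT.IsCIT G) (h : H3 G) (S : Subgroup G) [S.Normal]
    (hC : Subgroup.centralizer (S : Set G) = ⊥)
    (e : S ≃* Matrix.ProjectiveSpecialLinearGroup (Fin 2) F)
    (hq : Even (Fintype.card F) ∨ Fintype.card F = 7 ∨ Fintype.card F = 9) : S = ⊤ := by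
  classical
  obtain ⟨Φ, hinj, hS⟩ := exists_embedding S hC e
  have hinn : ∀ x, ∃ g : G, Φ g = MulAut.conj x := fun x =>
    ⟨(e.symm x : S), by rw [hS, e.apply_symm_apply]⟩
  refine eq_top_of_inner S e hinj hS (AutTwo.inner_of_prime_field Φ hinj hinn ?_ ?_)
  · intro g A σ hg
    rcases hq with heven | h79
    · exact FiniteField.isSquare_of_char_two
        ((FiniteField.even_card_iff_char_two.2 (Nat.even_iff.1 heven))) _
    by_contra hA
    obtain ⟨u, hu⟩ := IsCyclic.exists_ofOrder_eq_natCard (α := Fˣ)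
    rw [Nat.card_units, Nat.card_eq_fintype_card] at hu
    have huns : ¬ IsSquare (u : F) := by
      rintro ⟨c, hc⟩
      have hc0 : c ≠ 0 := fun e0 => u.ne_zero (by rw [hc, e0, mul_zero])
      have h1 : u = Units.mk0 c hc0 ^ 2 := Units.ext (by simp [hc, pow_two])
      have h2 : u ^ ((Fintype.card F - 1) / 2) = 1 := by
        rw [h1, ← pow_mul, show 2 * ((Fintype.card F - 1) / 2) = Fintype.card F - 1 by omega]
        refine Units.ext ?_
        simp [FiniteField.pow_card_sub_one_eq_one c hc0]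
      have := Nat.le_of_dvd (by omega) (hu ▸ orderOf_dvd_of_pow_eq_one h2)
      omega
    by_cases hσ : σ = 1
    · obtain ⟨g', hg'⟩ := exists_adjust hinn hg hA (M := diagFirst (by norm_num) u)
        (by rw [det_diagFirst]; exact huns)
      have ho : orderOf g' = Fintype.card F - 1 := by
        rw [← orderOf_injective Φ hinj, hg', hσ, map_one, mul_one, orderOf_conjAut_diagFirst, hu]
      rcases h79 with e7 | e9
      · exact absurd (CITReduce.eq_two hcit Nat.prime_three (ho ▸ e7.symm ▸ (by norm_num : 3 ∣ 7 - 1))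
          (ho ▸ e7.symm ▸ (by norm_num : 2 ∣ 7 - 1))) (by norm_num)
      · exact h.no_eight g' (ho ▸ e9.symm ▸ (by norm_num : 8 ∣ 9 - 1))
    · haveI : Finite (F ≃+* F) := Finite.of_injective _ DFunLike.coe_injective
      rcases h79 with e7 | e9
      · haveI : Fact (Nat.Prime 7) := ⟨by norm_num⟩
        have hc := AutPSL.card_fieldAuts (F := F) (p := 7) (f := 1) (by rw [e7]; rfl)
        haveI := (Nat.card_eq_one_iff_unique.1 hc).1
        exact hσ (Subsingleton.elim _ _)
      haveI : Fact (Nat.Prime 3) := ⟨Nat.prime_three⟩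
      have hF9 : Fintype.card F = 3 ^ 2 := by rw [e9]; rfl
      haveI : Fact (Nat.Prime 2) := ⟨Nat.prime_two⟩
      have hσ2 : orderOf σ = 2 := by
        refine orderOf_eq_prime ?_ hσ
        have := pow_card_eq_one' (x := σ)
        rwa [AutPSL.card_fieldAuts hF9] at this
      have hm1 : IsSquare (-1 : F) := by
        rw [FiniteField.isSquare_neg_one_iff, e9]; norm_num
      let M : GL (Fin 2) F := GeneralLinearGroup.mkOfDetNeZero !![0, 1; (u : F), 0]
        (by rw [Matrix.det_fin_two]; simp)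
      have hM : ¬ IsSquare ((GeneralLinearGroup.det M : Fˣ) : F) := by
        intro hsq
        refine huns ?_
        simp [M, Matrix.det_fin_two] at hsq
        simpa using hm1.mul hsq
      obtain ⟨g', hg'⟩ := exists_adjust hinn hg hA hM
      have hsq : Φ (g' ^ 2) = conjAut (diagFirst (by norm_num) (u ^ 2)) := by
        rw [map_pow, hg', conjAut_mul_fieldAut_pow,
          show σ ^ 2 = 1 by rw [← hσ2, pow_orderOf_eq_one], map_one, mul_one]
        refine (conjAut_eq_iff le_rfl).2 ⟨u⁻¹, Units.ext ?_⟩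
        have hσu : σ (u : F) = (u : F) ^ 3 := by
          rw [AutPSL.apply_eq_pow hF9 hσ2]; norm_num
        rw [Units.val_mul]
        show _ = scalar (Fin 2) ((u⁻¹ : Fˣ) : F) * _
        rw [scalar_apply]
        ext i j
        fin_cases i <;> fin_cases j <;>
          simp [M, diagFirst, tnorm_succ, Matrix.mul_apply, Matrix.vecMul, dotProduct, Matrix.map_apply,
            Fin.sum_univ_two, hσu] <;>
          field_simp
      have ho2 : orderOf (g' ^ 2) = 4 := by
        rw [← orderOf_injective Φ hinj, hsq, orderOf_conjAut_diagFirst, orderOf_pow, hu, e9]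
        rfl
      refine h.no_eight g' (dvd_of_eq (orderOf_eq_prime_pow (p := 2) (n := 2) (fun e1 => ?_) ?_).symm)
      · have hd : orderOf (g' ^ 2) ∣ 2 := orderOf_dvd_of_pow_eq_one (by
          rw [← pow_mul]; exact e1)
        rw [ho2] at hd
        norm_num at hd
      · rw [show (2 : ℕ) ^ (2 + 1) = 2 * 4 by norm_num, pow_mul, ← ho2, pow_orderOf_eq_one]
  · intro g τ l hl _ hgl hg
    have hcomm : ∀ {s : Matrix.SpecialLinearGroup (Fin 2) F}, fieldSL τ s = s →
        Commute g (e.symm (QuotientGroup.mk s) : S) := fun {s} hs => hinj (by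
      rw [map_mul, map_mul, hg, hS, e.apply_symm_apply]
      exact AutTwo.commute_fixed hs)
    have h1 := eq_one_of_commute hcit (by rw [Subgroup.orderOf_coe, MulEquiv.orderOf_eq, AutTwo.orderOf_w])
      (by rw [Subgroup.orderOf_coe, MulEquiv.orderOf_eq, AutTwo.orderOf_z])
      (hcomm (AutTwo.fieldSL_w τ)) (hcomm (AutTwo.fieldSL_z τ))
    rw [h1, orderOf_one] at hgl
    exact hl.ne_one hgl.symm

end Cfsg.Agent.Lib.ThreeOrders
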