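import Cfsg.Agent.Lib.ThreeOrders.CITTools
import Cfsg.Agent.Lib.AutPSL.Main
import Cfsg.Agent.Lib.AutPSL.Out

/-!
# CIT overgroups of `PSL₃(4)`

Owner: helper73.
-/

set_option autoImplicit false
set_option linter.style.haveILetI false
set_option linter.unusedSectionVars false

namespace Cfsg.Agent.Lib.ThreeOrders

open Matrix Cfsg.Agent.Lib.AutPSL

variable {G : Type*} [Group G] [Finite G] {F : Type} [Field F]

/-- The transposition fixing the first coordinate. -/
def tSL [CharP F 2] : Matrix.SpecialLinearGroup (Fin 3) F :=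
  ⟨!![1, 0, 0; 0, 0, 1; 0, 1, 0], by simp [Matrix.det_fin_three, CharTwo.neg_eq]⟩

/-- A monomial element of order three. -/
def cSL (d : Fˣ) : Matrix.SpecialLinearGroup (Fin 3) F :=
  ⟨!![0, (d : F), 0; 0, 0, 1; ((d⁻¹ : Fˣ) : F), 0, 0], by simp [Matrix.det_fin_three]⟩

/-- A diagonal element of order three. -/
def oSL (x : Fˣ) : Matrix.SpecialLinearGroup (Fin 3) F :=
  ⟨!![1, 0, 0; 0, (x : F), 0; 0, 0, ((x⁻¹ : Fˣ) : F)], by simp [Matrix.det_fin_three]⟩

theorem transInv_eq_of_mul {s t : Matrix.SpecialLinearGroup (Fin 3) F}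
    (h : (s : Matrix (Fin 3) (Fin 3) F) * (t : Matrix (Fin 3) (Fin 3) F)ᵀ = 1) :
    transInv s = t := by
  have h1 : s * t.transpose = 1 := Subtype.ext (by
    rw [Matrix.SpecialLinearGroup.coe_mul, Matrix.SpecialLinearGroup.coe_transpose]; exact h)
  rw [transInv_apply, inv_eq_of_mul_eq_one_right h1]
  exact Subtype.ext (Matrix.transpose_transpose _)

theorem mk_three_ne_one {s : Matrix.SpecialLinearGroup (Fin 3) F}
    (h : (s : Matrix (Fin 3) (Fin 3) F) 0 0 ≠ (s : Matrix (Fin 3) (Fin 3) F) 1 1 ∨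
      (s : Matrix (Fin 3) (Fin 3) F) 0 1 ≠ 0) :
    (QuotientGroup.mk s : Matrix.ProjectiveSpecialLinearGroup (Fin 3) F) ≠ 1 := by
  rw [Ne, QuotientGroup.eq_one_iff, Matrix.SpecialLinearGroup.mem_center_iff]
  rintro ⟨r, -, hr⟩
  rcases h with h | h <;> exact h (by rw [← hr]; simp)

theorem commute_descend {β : MulAut (Matrix.SpecialLinearGroup (Fin 3) F)}
    {s : Matrix.SpecialLinearGroup (Fin 3) F} (h : β s = s) :
    Commute (descend β) (MulAut.conj (QuotientGroup.mk s :
      Matrix.ProjectiveSpecialLinearGroup (Fin 3) F)) := by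
  refine MulEquiv.ext fun x => ?_
  simp only [MulAut.mul_apply, MulAut.conj_apply, map_mul, map_inv, descend_mk, h]

set_option maxHeartbeats 1000000 in
/-- The socle `PSL₃(4)` is the whole group. -/
theorem eq_top_of_psl_three [Fintype F] (hcit : CIT.IsCIT G) (S : Subgroup G) [S.Normal]
    (hC : Subgroup.centralizer (S : Set G) = ⊥)
    (e : S ≃* Matrix.ProjectiveSpecialLinearGroup (Fin 3) F) (hF : Fintype.card F = 4) : S = ⊤ := by
  classical
  haveI : Fact (Nat.Prime 2) := ⟨Nat.prime_two⟩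
  haveI : Fact (Nat.Prime 3) := ⟨Nat.prime_three⟩
  have hF2 : Fintype.card F = 2 ^ 2 := by rw [hF]; rfl
  haveI : CharP F 2 := charP_of_card_eq_prime_pow hF2
  have hcube : ∀ x : Fˣ, x ^ 3 = 1 := fun x => Units.ext (by
    rw [Units.val_pow_eq_pow_val, Units.val_one, show 3 = Fintype.card F - 1 by omega,
      FiniteField.pow_card_sub_one_eq_one _ x.ne_zero])
  obtain ⟨Φ, hinj, hS⟩ := exists_embedding S hC e
  refine eq_top_of_inner S e hinj hS fun g => ?_
  obtain ⟨A, σ, γ, hγ, hg⟩ := exists_decomp (n := 3) (by norm_num) (Φ g)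
  obtain ⟨δ, hδ, hγδ⟩ : ∃ δ : MulAut (Matrix.SpecialLinearGroup (Fin 3) F),
      (δ = 1 ∨ δ = transInv) ∧ γ = descend δ := by
    rcases hγ with rfl | ⟨-, rfl⟩
    · exact ⟨1, Or.inl rfl, (map_one descend).symm⟩
    · exact ⟨transInv, Or.inr rfl, rfl⟩
  set c : Fˣ := GeneralLinearGroup.det A with hc
  set D : GL (Fin 3) F := diagFirst (by norm_num) c with hD
  set β : MulAut (Matrix.SpecialLinearGroup (Fin 3) F) := conjSL D * fieldSL σ * δ with hβ
  let s : Matrix.SpecialLinearGroup (Fin 3) F := ⟨((A * D⁻¹ : GL (Fin 3) F) : Matrix (Fin 3) (Fin 3) F), by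
    rw [← GeneralLinearGroup.val_det_apply, map_mul, map_inv, hD, det_diagFirst, ← hc, mul_inv_cancel]
    rfl⟩
  have hA : A = Matrix.SpecialLinearGroup.toGL s * D := by
    rw [show (Matrix.SpecialLinearGroup.toGL s : GL (Fin 3) F) = A * D⁻¹ from Units.ext rfl]
    group
  refine ⟨QuotientGroup.mk s, ?_⟩
  have hg' : Φ ((e.symm (QuotientGroup.mk s) : S) : G)⁻¹ * Φ g = descend β := by
    rw [map_inv, hS, e.apply_symm_apply, hg, hA, map_mul, conjAut_toGL, hβ, map_mul, map_mul, hγδ]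
    rw [show (descend (conjSL D) : MulAut _) = conjAut D from rfl,
      show (descend (fieldSL σ) : MulAut _) = fieldAut σ from rfl]
    group
  rw [← map_mul] at hg'
  set g' := ((e.symm (QuotientGroup.mk s) : S) : G)⁻¹ * g with hg'def
  suffices h1 : g' = 1 by
    have : g = ((e.symm (QuotientGroup.mk s) : S) : G) := by
      rw [hg'def, inv_mul_eq_one] at h1; exact h1.symm
    rw [this, hS, e.apply_symm_apply]
  have hcomm : ∀ {t : Matrix.SpecialLinearGroup (Fin 3) F}, β t = t →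
      Commute g' (e.symm (QuotientGroup.mk t) : S) := fun {t} ht => hinj (by
    rw [map_mul Φ g', map_mul Φ _ g', hg', hS, e.apply_symm_apply]
    exact commute_descend ht)
  -- action on the special elements
  have hσ : σ = 1 ∨ ∀ x : F, σ x = x ^ 2 := by
    by_cases h1 : σ = 1
    · exact Or.inl h1
    refine Or.inr fun x => ?_
    haveI : Finite (F ≃+* F) := Finite.of_injective _ DFunLike.coe_injective
    have ho : orderOf σ = 2 := by
      refine orderOf_eq_prime ?_ h1
      have := pow_card_eq_one' (x := σ)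
      rwa [AutPSL.card_fieldAuts hF2] at this
    rw [AutPSL.apply_eq_pow hF2 ho]
    norm_num
  have hsq : ∀ x : Fˣ, ((x⁻¹ : Fˣ) : F) = (x : F) ^ 2 := fun x => by
    rw [← Units.val_pow_eq_pow_val]
    exact congrArg Units.val (inv_eq_of_mul_eq_one_left (by rw [← pow_succ]; exact hcube x))
  have hT : ∀ x : Fˣ, conjSL D (oSL x) = oSL x := fun x => by
    refine Subtype.ext ?_
    rw [coe_conjSL, hD]
    ext i j
    fin_cases i <;> fin_cases j <;>
      simp [oSL, diagFirst, Matrix.mul_apply, Fin.sum_univ_three, Pi.mulSingle, Function.update]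
  have hTt : conjSL D (tSL : Matrix.SpecialLinearGroup (Fin 3) F) = tSL := by
    refine Subtype.ext ?_
    rw [coe_conjSL, hD]
    ext i j
    fin_cases i <;> fin_cases j <;>
      simp [tSL, diagFirst, Matrix.mul_apply, Fin.sum_univ_three, Pi.mulSingle, Function.update]
  have hTc : ∀ d : Fˣ, conjSL D (cSL d) = cSL (c * d) := fun d => by
    refine Subtype.ext ?_
    rw [coe_conjSL, hD]
    ext i j
    fin_cases i <;> fin_cases j <;>
      simp [cSL, diagFirst, Matrix.mul_apply, Fin.sum_univ_three, Pi.mulSingle, Function.update, mul_comm]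
  have hIo : ∀ x : Fˣ, transInv (oSL x) = oSL x⁻¹ := fun x => transInv_eq_of_mul (by
    ext i j
    fin_cases i <;> fin_cases j <;> simp [oSL, Matrix.mul_apply, Fin.sum_univ_three])
  have hIt : transInv (tSL : Matrix.SpecialLinearGroup (Fin 3) F) = tSL := transInv_eq_of_mul (by
    ext i j
    fin_cases i <;> fin_cases j <;> simp [tSL, Matrix.mul_apply, Fin.sum_univ_three])
  have hIc : ∀ x : Fˣ, transInv (cSL x) = cSL x⁻¹ := fun x => transInv_eq_of_mul (by
    ext i j
    fin_cases i <;> fin_cases j <;> simp [cSL, Matrix.mul_apply, Fin.sum_univ_three])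
  have hFo : σ ≠ 1 → ∀ x : Fˣ, fieldSL σ (oSL x) = oSL x⁻¹ := fun h1 x => by
    refine Subtype.ext ?_
    have h2 := hσ.resolve_left h1
    rw [coe_fieldSL]
    ext i j
    fin_cases i <;> fin_cases j <;> simp [oSL, h2, hsq x, ← pow_mul]
    all_goals rw [pow_succ, ← Units.val_pow_eq_pow_val, hcube x, Units.val_one, one_mul]
  have hFc : σ ≠ 1 → ∀ x : Fˣ, fieldSL σ (cSL x) = cSL x⁻¹ := fun h1 x => by
    refine Subtype.ext ?_
    have h2 := hσ.resolve_left h1
    rw [coe_fieldSL]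
    ext i j
    fin_cases i <;> fin_cases j <;> simp [cSL, h2, hsq x, ← pow_mul]
    all_goals rw [pow_succ, ← Units.val_pow_eq_pow_val, hcube x, Units.val_one, one_mul]
  have hFt : fieldSL σ (tSL : Matrix.SpecialLinearGroup (Fin 3) F) = tSL := by
    refine Subtype.ext ?_
    rw [coe_fieldSL]
    ext i j
    fin_cases i <;> fin_cases j <;> simp [tSL]
  have hwfix : β tSL = tSL := by
    rw [hβ, MulAut.mul_apply, MulAut.mul_apply]
    rcases hδ with rfl | rfl
    · rw [MulAut.one_apply, hFt, hTt]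
    · rw [hIt, hFt, hTt]
  have how : orderOf ((e.symm (QuotientGroup.mk (tSL : Matrix.SpecialLinearGroup (Fin 3) F)) : S) : G) = 2 := by
    rw [Subgroup.orderOf_coe, MulEquiv.orderOf_eq]
    refine orderOf_eq_prime ?_ (mk_three_ne_one (Or.inl (by simp [tSL])))
    rw [← QuotientGroup.mk_pow]
    have : (tSL : Matrix.SpecialLinearGroup (Fin 3) F) ^ 2 = 1 := by
      refine Subtype.ext ?_
      rw [Matrix.SpecialLinearGroup.coe_pow, Matrix.SpecialLinearGroup.coe_one, pow_two]
      ext i j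
      fin_cases i <;> fin_cases j <;> simp [tSL, Matrix.mul_apply, Fin.sum_univ_three]
    rw [this, QuotientGroup.mk_one]
  obtain ⟨w, hw1⟩ : ∃ w : Fˣ, w ≠ 1 := by
    by_contra hne
    push Not at hne
    have hss : Subsingleton Fˣ := ⟨fun a b => by rw [hne a, hne b]⟩
    have := Fintype.card_le_one_iff_subsingleton.2 hss
    rw [Fintype.card_units, hF] at this
    omega
  have ho : ∀ t : Matrix.SpecialLinearGroup (Fin 3) F, t ^ 3 = 1 →
      (QuotientGroup.mk t : Matrix.ProjectiveSpecialLinearGroup (Fin 3) F) ≠ 1 →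
      orderOf ((e.symm (QuotientGroup.mk t) : S) : G) = 3 := fun t h1 h2 => by
    rw [Subgroup.orderOf_coe, MulEquiv.orderOf_eq]
    refine orderOf_eq_prime ?_ h2
    rw [← QuotientGroup.mk_pow, h1, QuotientGroup.mk_one]
  have ho3 : ∀ x : Fˣ, (oSL x) ^ 3 = 1 := fun x => by
    refine Subtype.ext ?_
    have h3 : (x : F) ^ 3 = 1 := by rw [← Units.val_pow_eq_pow_val, hcube x, Units.val_one]
    have h6 : ((x⁻¹ : Fˣ) : F) ^ 3 = 1 := by rw [← Units.val_pow_eq_pow_val, hcube x⁻¹, Units.val_one]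
    rw [Matrix.SpecialLinearGroup.coe_pow, Matrix.SpecialLinearGroup.coe_one, pow_succ, pow_two]
    ext i j
    fin_cases i <;> fin_cases j <;> simp [oSL, Matrix.mul_apply, Fin.sum_univ_three]
    all_goals rw [Units.val_inv_eq_inv_val] at h6
    all_goals first | linear_combination h3 | linear_combination h6
  have hc3 : ∀ x : Fˣ, (cSL x) ^ 3 = 1 := fun x => by
    refine Subtype.ext ?_
    rw [Matrix.SpecialLinearGroup.coe_pow, Matrix.SpecialLinearGroup.coe_one, pow_succ, pow_two]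
    ext i j
    fin_cases i <;> fin_cases j <;> simp [cSL, Matrix.mul_apply, Fin.sum_univ_three]
  have finish : ∀ t : Matrix.SpecialLinearGroup (Fin 3) F, β t = t → t ^ 3 = 1 →
      (QuotientGroup.mk t : Matrix.ProjectiveSpecialLinearGroup (Fin 3) F) ≠ 1 → g' = 1 :=
    fun t h1 h2 h3 => eq_one_of_commute hcit how (ho t h2 h3) (hcomm hwfix) (hcomm h1)
  have hoO := finish (oSL w)
  have hdd : c * (c ^ 2)⁻¹ = c ^ 2 := by
    rw [mul_inv_eq_iff_eq_mul, ← pow_add, show 2 + 2 = 3 + 1 by norm_num, pow_succ, hcube, one_mul]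
  have hne1 : (QuotientGroup.mk (oSL w) : Matrix.ProjectiveSpecialLinearGroup (Fin 3) F) ≠ 1 :=
    mk_three_ne_one (Or.inl (by simpa [oSL, eq_comm] using hw1))
  have hne2 : (QuotientGroup.mk (cSL (c ^ 2)) : Matrix.ProjectiveSpecialLinearGroup (Fin 3) F) ≠ 1 :=
    mk_three_ne_one (Or.inr (by simp [cSL]))
  by_cases hσ1 : σ = 1 <;> rcases hδ with hδ1 | hδ1
  · refine hoO ?_ (ho3 w) hne1
    rw [hβ, MulAut.mul_apply, MulAut.mul_apply, hδ1, MulAut.one_apply, hσ1, map_one, MulAut.one_apply, hT]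
  · refine finish (cSL (c ^ 2)) ?_ (hc3 _) hne2
    rw [hβ, MulAut.mul_apply, MulAut.mul_apply, hδ1, hIc, hσ1, map_one, MulAut.one_apply, hTc, hdd]
  · refine finish (cSL (c ^ 2)) ?_ (hc3 _) hne2
    rw [hβ, MulAut.mul_apply, MulAut.mul_apply, hδ1, MulAut.one_apply, hFc hσ1, hTc, hdd]
  · refine hoO ?_ (ho3 w) hne1
    rw [hβ, MulAut.mul_apply, MulAut.mul_apply, hδ1, hIo, hFo hσ1, inv_inv, hT]

end Cfsg.Agent.Lib.ThreeOrders
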