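import Cfsg.Agent.Lib.ThreeOrders.NoFourCase
import Cfsg.Agent.Lib.ThreeOrders.CITLinear
import Cfsg.Agent.Lib.ThreeOrders.CITLinearThree
import Cfsg.Agent.Lib.CITReduce.SuzukiGraph
import Cfsg.Agent.S2126

/-!
# The case of 2-groups as involution centralizers

Owner: helper73.
-/

set_option autoImplicit false
set_option linter.style.haveILetI false
set_option linter.unusedSectionVars false

namespace Cfsg.Agent.Lib.ThreeOrders

open Subgroup Cfsg.Agent.Lib.LieTwisted.Suzuki

universe u

variable {G : Type u} [Group G] [Finite G]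

/-- The outcome in this case. -/
def CITShape (G : Type u) [Group G] : Prop :=
  (∃ (F : Type) (_ : Field F) (_ : Fintype F), (∃ n : ℕ, 2 ≤ n ∧ Fintype.card F = 2 ^ n) ∧
      Nonempty (G ⧸ Cfsg.pCore 2 G ≃* Matrix.ProjectiveSpecialLinearGroup (Fin 2) F)) ∨
  (∃ (F : Type) (_ : Field F) (_ : Fintype F), (Fintype.card F = 7 ∨ Fintype.card F = 9) ∧
      Nonempty (G ≃* Matrix.ProjectiveSpecialLinearGroup (Fin 2) F)) ∨
  (∃ (F : Type) (_ : Field F) (_ : Fintype F), Fintype.card F = 4 ∧
      Nonempty (G ≃* Matrix.ProjectiveSpecialLinearGroup (Fin 3) F)) ∨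
  (∃ (F : Type) (_ : Field F) (_ : Fintype F) (m : ℕ), 1 ≤ m ∧ Fintype.card F = 2 ^ (2 * m + 1) ∧
      IsSimpleGroup G ∧ Nonempty (G ≃* Cfsg.Lie.Sz F (2 ^ (m + 1))))

theorem exists_four_of_dvd {A : Type*} [Group A] [Finite A] {x : A} (h : 4 ∣ orderOf x) :
    ∃ y : A, orderOf y = 4 :=
  ⟨_, orderOf_pow_orderOf_div (orderOf_pos x).ne' h⟩

/-- The classification in this case. -/
theorem cit_main (hcit : CIT.IsCIT G) (h : H3 G) (hns : ¬ Group.IsSolvable G) : CITShape G := by
  haveI : Fact (Nat.Prime 2) := ⟨Nat.prime_two⟩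
  set P := Cfsg.pCore 2 G with hP
  have hQcit := CITReduce.isCIT_quotient hcit P
  have hQ := h.quotient P
  obtain ⟨S, hSn, hsim, hna, hC⟩ := CITReduce.exists_socle hQcit
    (CITReduce.not_isSolvable_quotient_pCore hns) (Cores.pCore_quotient_pCore 2)
  haveI := hSn
  haveI := hsim
  have hne : ∃ a b : S, a * b ≠ b * a := by
    by_contra hc
    push Not at hc
    exact hna ⟨⟨hc⟩⟩
  have hScit := CITReduce.isCIT_subgroup hQcit S
  -- transport
  have whole : ∀ {L : Type} [Group L], (S ≃* L) → S = ⊤ → (∃ y : L, orderOf y = 4) →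
      Cfsg.pCore 2 G = ⊥ ∧ Nonempty (G ≃* L) := by
    intro L _ e htop hy
    obtain ⟨y, hy⟩ := hy
    have hbot : Cfsg.pCore 2 G = ⊥ :=
      pCore_eq_bot_of_four hcit h (x := ((e.symm y : S) : G ⧸ P))
        (by rw [Subgroup.orderOf_coe, MulEquiv.orderOf_eq, hy])
    exact ⟨hbot, ⟨((QuotientGroup.quotientBot.symm.trans (QuotientGroup.quotientMulEquivOfEq hbot.symm)).trans
      ((Subgroup.topEquiv.symm).trans (MulEquiv.subgroupCongr htop.symm))).trans e⟩⟩
  rcases CITSuzuki.simpleCITClass S hne hScit with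
    ⟨F, iF, iT, hF, ⟨e⟩⟩ | ⟨F, iF, iT, hF, ⟨e⟩⟩ | ⟨F, iF, iT, m, hm, hF, ⟨e⟩⟩
  · have h4 := CITSuzuki.Lists.five_le_of_simple hne e
    have even : ∀ {K : Type} [Field K] [Fintype K], (∃ n : ℕ, 2 ≤ n ∧ Fintype.card K = 2 ^ n) →
        (S ≃* Matrix.ProjectiveSpecialLinearGroup (Fin 2) K) → CITShape G := by
      intro K _ _ hK e'
      obtain ⟨n, hn2, hn⟩ := hK
      have htop := eq_top_of_psl_two hQcit hQ S hC e'
        (Or.inl (hn ▸ Nat.even_pow.2 ⟨even_two, by omega⟩))
      exact Or.inl ⟨K, _, _, ⟨n, hn2, hn⟩,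
        ⟨((Subgroup.topEquiv.symm).trans (MulEquiv.subgroupCongr htop.symm)).trans e'⟩⟩
    have seven : Fintype.card F = 7 ∨ Fintype.card F = 9 → CITShape G := by
      intro h79
      have htop := eq_top_of_psl_two hQcit hQ S hC e (Or.inr h79)
      have hodd : Odd (Fintype.card F) := by rcases h79 with e1 | e1 <;> rw [e1] <;> decide
      obtain ⟨⟨x, hx, -⟩, ⟨y, hy, -⟩⟩ := CITSuzuki.Orders.psl_two_odd (F := F) hodd
      have h4' : ∃ z : Matrix.ProjectiveSpecialLinearGroup (Fin 2) F, orderOf z = 4 := by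
        rcases h79 with e7 | e9
        · exact exists_four_of_dvd (x := y) (by rwa [e7] at hy)
        · exact exists_four_of_dvd (x := x) (by rwa [e9] at hx)
      exact Or.inr (Or.inl ⟨F, iF, iT, h79, (whole e htop h4').2⟩)
    rcases hF with h9 | ⟨n, hn⟩ | ⟨hp, k, hk⟩
    · exact seven (Or.inr h9)
    · refine even ⟨n, ?_, hn⟩ e
      by_contra hlt
      interval_cases n <;> simp at hn <;> omega
    · rcases Nat.lt_or_ge (Fintype.card F) 7 with hlt | hge
      · have h5 : Fintype.card F = 5 := by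
          interval_cases hcard : Fintype.card F
          · exact absurd hp (by decide)
          · rfl
          · exact absurd hp (by decide)
        obtain ⟨K, iK, iK', hK, ⟨e'⟩⟩ := CITSuzuki.Lists.psl_two_five_to_four h5 e
        exact even ⟨2, le_rfl, hK⟩ e'
      refine seven (Or.inl ?_)
      have hodd : Odd (Fintype.card F) := hp.odd_of_ne_two (by omega)
      obtain ⟨⟨x, hx, -⟩, ⟨y, hy, -⟩⟩ := CITSuzuki.Orders.psl_two_odd (F := F) hodd
      obtain ⟨x, rfl⟩ := e.surjective x
      obtain ⟨y, rfl⟩ := e.surjective y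
      rw [MulEquiv.orderOf_eq] at hx hy
      have hk4 : k < 4 := by
        by_contra hge4
        push Not at hge4
        obtain ⟨j, rfl⟩ := Nat.exists_eq_add_of_le hge4
        have h16 : 2 ^ (4 + j) = 16 * 2 ^ j := by rw [pow_add]; norm_num
        rw [h16] at hk
        rcases hk with hk | hk
        · exact (hQ.subgroup S).no_eight x ((dvd_mul_right 8 (2 ^ j)).trans
            (by rwa [show (Fintype.card F - 1) / 2 = 8 * 2 ^ j by omega] at hx))
        · exact (hQ.subgroup S).no_eight y ((dvd_mul_right 8 (2 ^ j)).trans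
            (by rwa [show (Fintype.card F + 1) / 2 = 8 * 2 ^ j by omega] at hy))
      interval_cases k
      · omega
      · omega
      · omega
      · rcases hk with hk | hk
        · norm_num at hk
          rw [hk] at hp
          norm_num at hp
        · norm_num at hk
          omega
  · haveI : CharP F 2 := charP_of_card_eq_prime_pow (f := 2) (by rw [hF]; rfl)
    have htop := eq_top_of_psl_three hQcit S hC e hF
    exact Or.inr (Or.inr (Or.inl ⟨F, iF, iT, hF, (whole e htop exists_four_psl_three).2⟩))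
  · -- the Suzuki groups
    have hk : IsSzField F m := ⟨hF⟩
    let eS : S ≃* Cfsg.Sz F m := e.trans (szEquiv hk hm).symm
    have hLc : Subgroup.center ↥(Cfsg.Lie.Sz F (2 ^ (m + 1))) = ⊥ := by
      have hS := FTClassSize.center_eq_bot_of_simple hna
      rw [Subgroup.eq_bot_iff_forall]
      intro x hx
      have : e.symm x ∈ Subgroup.center S := Subgroup.mem_center_iff.2 fun y => e.injective (by
        rw [map_mul, map_mul, e.apply_symm_apply, Subgroup.mem_center_iff.1 hx (e y)])
      rw [hS, Subgroup.mem_bot] at this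
      simpa using congrArg e this
    obtain ⟨Φ, hinj, -⟩ := exists_embedding S hC e
    have hidx : Odd S.index := by
      have hd := dvd_trans (Subgroup.card_dvd_of_injective _ hinj) (dvd_of_eq
        ((CITReduce.SuzukiGraph.card_mulAut hLc).trans
          (congrArg₂ (· * ·) (S2126.result hm hF) (Nat.card_congr e.toEquiv).symm)))
      rw [← Subgroup.index_mul_card S] at hd
      exact (odd_two_mul_add_one m).of_dvd_nat (Nat.dvd_of_mul_dvd_mul_right Nat.card_pos hd)
    have hcl : ∀ s t : S, orderOf s = 2 → orderOf t = 2 → IsConj s t := by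
      intro s t hs ht
      have := CITReduce.SuzukiGraph.isConj_involutions hk hm (s := eS s) (t := eS t)
        (by rw [MulEquiv.orderOf_eq, hs]) (by rw [MulEquiv.orderOf_eq, ht])
      obtain ⟨c, hc⟩ := isConj_iff.1 this
      exact isConj_iff.2 ⟨eS.symm c, eS.injective (by simp [hc])⟩
    have htop := CITReduce.eq_top_of_odd_index hQcit S hidx
      (CITReduce.exists_involution_of_not_isSolvable fun hs =>
        hna ⟨⟨IsSimpleGroup.comm_iff_isSolvable.2 hs⟩⟩) hcl
    obtain ⟨z, hz⟩ := CITSuzuki.Orders.sz_four hk hm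
    obtain ⟨hbot, ⟨eG⟩⟩ := whole e htop ⟨szEquiv hk hm z, by rw [MulEquiv.orderOf_eq, hz]⟩
    haveI : IsSimpleGroup G := (eG.trans e.symm).isSimpleGroup
    exact Or.inr (Or.inr (Or.inr ⟨F, iF, iT, m, hm, hF, inferInstance, ⟨eG⟩⟩))

end Cfsg.Agent.Lib.ThreeOrders
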