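import Cfsg.Agent.Lib.ThreeOrders.Basic
import Cfsg.Agent.Lib.Involutions.BaerSuzuki
import Cfsg.Agent.Lib.Cores.Basic

/-!
# Tools for the case of 2-groups as involution centralizers

* `exists_embedding`, `eq_top_of_inner` : a socle as a subgroup of automorphisms;
* `eq_one_of_commute` : nothing commutes with an involution and an element of order three;
* `pCore_eq_bot_of_four` : an element of order four modulo `O₂` kills `O₂`.

Owner: helper73.
-/

set_option autoImplicit false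
set_option linter.style.haveILetI false
set_option linter.unusedSectionVars false

namespace Cfsg.Agent.Lib.ThreeOrders

open Subgroup Cfsg.Agent.Lib.Involutions.Basic

variable {G : Type*} [Group G] [Finite G]

theorem exists_embedding (S : Subgroup G) [S.Normal] (hC : centralizer (S : Set G) = ⊥) {P : Type*}
    [Group P] (e : S ≃* P) :
    ∃ Φ : G →* MulAut P, Function.Injective Φ ∧ ∀ s : S, Φ (s : G) = MulAut.conj (e s) := by
  refine ⟨(MulAut.congr e).toMonoidHom.comp (MulAut.conjNormal : G →* MulAut S), ?_, fun s => ?_⟩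
  · refine (MulAut.congr e).injective.comp ?_
    rw [injective_iff_map_eq_one]
    intro g hg
    refine Subgroup.mem_bot.1 (hC ▸ Subgroup.mem_centralizer_iff.2 fun s hs => ?_)
    have := congrArg (fun a : MulAut S => ((a ⟨s, hs⟩ : S) : G)) hg
    simp only [MulAut.conjNormal_apply, MulAut.one_apply] at this
    exact (mul_inv_eq_iff_eq_mul.1 this).symm
  · refine MulEquiv.ext fun x => ?_
    show e ((MulAut.conjNormal (s : G) : MulAut S) (e.symm x)) = e s * x * (e s)⁻¹
    rw [show (MulAut.conjNormal (s : G) : MulAut S) (e.symm x) = s * e.symm x * s⁻¹ from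
      Subtype.ext (MulAut.conjNormal_apply _ _), map_mul, map_mul, map_inv, e.apply_symm_apply]

theorem eq_top_of_inner (S : Subgroup G) {P : Type*} [Group P] (e : S ≃* P) {Φ : G →* MulAut P}
    (hinj : Function.Injective Φ) (hS : ∀ s : S, Φ (s : G) = MulAut.conj (e s))
    (h : ∀ g, ∃ x : P, Φ g = MulAut.conj x) : S = ⊤ := by
  refine (Subgroup.eq_top_iff' S).2 fun g => ?_
  obtain ⟨x, hx⟩ := h g
  have : g = (e.symm x : S) := hinj (by rw [hx, hS, e.apply_symm_apply])
  exact this ▸ (e.symm x).2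

/-- Nothing commutes with both an involution and an element of order three. -/
theorem eq_one_of_commute (hcit : CIT.IsCIT G) {g w z : G} (hw : orderOf w = 2) (hz : orderOf z = 3)
    (hgw : Commute g w) (hgz : Commute g z) : g = 1 := by
  by_contra hg
  obtain ⟨l, hl, hld⟩ := Nat.exists_prime_and_dvd (fun e => hg (orderOf_eq_one_iff.1 e) : orderOf g ≠ 1)
  set y := g ^ (orderOf g / l) with hy
  have hyo : orderOf y = l := orderOf_pow_orderOf_div (orderOf_pos g).ne' hld
  rcases eq_or_ne l 2 with rfl | hl2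
  · have ho := (hgz.pow_left (orderOf g / 2)).orderOf_mul_eq_mul_orderOf_of_coprime
      (by rw [← hy, hyo, hz]; norm_num)
    rw [← hy, hyo, hz] at ho
    exact absurd (CITReduce.eq_two hcit Nat.prime_three (ho ▸ dvd_mul_left 3 2) (ho ▸ dvd_mul_right 2 3))
      (by norm_num)
  · have ho := (hgw.pow_left (orderOf g / l)).orderOf_mul_eq_mul_orderOf_of_coprime
      (by rw [← hy, hyo, hw]; exact (Nat.coprime_primes hl Nat.prime_two).2 hl2)
    rw [← hy, hyo, hw] at ho
    exact hl2 (CITReduce.eq_two hcit hl (ho ▸ dvd_mul_right l 2) (ho ▸ dvd_mul_left 2 l))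

/-- An element of order four modulo `O₂` kills `O₂`. -/
theorem pCore_eq_bot_of_four (hcit : CIT.IsCIT G) (h : H3 G)
    {x : G ⧸ Cfsg.pCore 2 G} (hx : orderOf x = 4) : Cfsg.pCore 2 G = ⊥ := by
  haveI : Fact (Nat.Prime 2) := ⟨Nat.prime_two⟩
  by_contra hne
  obtain ⟨f, rfl⟩ := QuotientGroup.mk'_surjective (Cfsg.pCore 2 G) x
  set P := Cfsg.pCore 2 G with hP
  haveI hPn : P.Normal := by rw [hP]; infer_instance
  have hP2 : IsPGroup 2 P := Cores.pCore_isPGroup 2
  have h4f : 4 ∣ orderOf f := (dvd_of_eq hx.symm).trans (orderOf_map_dvd (QuotientGroup.mk' P) f)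
  have hfo : orderOf f = 4 := by
    obtain ⟨k, hk⟩ : ∃ k, orderOf f = 2 ^ k := ⟨_, Nat.eq_prime_pow_of_unique_prime_dvd (orderOf_pos f).ne'
      (fun {q} hq hqd => CITReduce.eq_two hcit hq hqd ((show 2 ∣ 4 by norm_num).trans h4f))⟩
    have h8 := h.no_eight f
    rw [hk] at h4f h8 ⊢
    rcases Nat.lt_or_ge k 3 with hk3 | hk3
    · interval_cases k <;> first | (norm_num at h4f; done) | norm_num
    · exact absurd ((show 8 = 2 ^ 3 by norm_num) ▸ Nat.pow_dvd_pow 2 hk3) h8
  -- the elementary part of the centre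
  let V : Subgroup G :=
    { carrier := {v | v ∈ P ∧ (∀ y ∈ P, y * v = v * y) ∧ v * v = 1}
      one_mem' := ⟨one_mem _, fun y _ => by rw [mul_one, one_mul], one_mul 1⟩
      mul_mem' := fun {a b} ha hb => ⟨mul_mem ha.1 hb.1,
        fun y hy => ((show Commute y a from ha.2.1 y hy).mul_right (hb.2.1 y hy)).eq, by
        rw [mul_assoc, ← mul_assoc b a b, ← (show a * b = b * a from hb.2.1 a ha.1), mul_assoc a b b,
          hb.2.2, mul_one, ha.2.2]⟩
      inv_mem' := fun {a} ha => ⟨inv_mem ha.1, fun y hy =>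
        ((show Commute y a from ha.2.1 y hy).inv_right).eq,
        by rw [← mul_inv_rev, ha.2.2, inv_one]⟩ }
  have hconj : ∀ g v : G, v ∈ V → g * v * g⁻¹ ∈ V := fun g v hv => by
    obtain ⟨hv1, hv2, hv3⟩ := hv
    refine ⟨hPn.conj_mem v hv1 g, fun y hy => ?_, by
      rw [show g * v * g⁻¹ * (g * v * g⁻¹) = g * (v * v) * g⁻¹ by group, hv3]; group⟩
    have := hv2 (g⁻¹ * y * g) (by simpa using hPn.conj_mem y hy g⁻¹)
    calc y * (g * v * g⁻¹) = g * (g⁻¹ * y * g * v) * g⁻¹ := by group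
      _ = g * (v * (g⁻¹ * y * g)) * g⁻¹ := by rw [this]
      _ = g * v * g⁻¹ * y := by group
  have hVne : ∃ v ∈ V, v ≠ 1 := by
    haveI : Nontrivial P := (Subgroup.nontrivial_iff_ne_bot _).2 hne
    haveI := hP2.center_nontrivial
    obtain ⟨k, hk⟩ := IsPGroup.iff_card.1 (hP2.to_subgroup (Subgroup.center P))
    have hd : 2 ∣ Nat.card (Subgroup.center P) := by
      rcases k with _ | k
      · exact absurd (Subgroup.card_eq_one.1 (by simpa using hk))
          ((Subgroup.nontrivial_iff_ne_bot _).1 inferInstance)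
      · rw [hk]; exact dvd_pow_self 2 (by omega)
    obtain ⟨⟨⟨v, hvP⟩, hvc⟩, hvo⟩ := exists_prime_orderOf_dvd_card' (G := Subgroup.center P) 2 hd
    rw [← Subgroup.orderOf_coe, ← Subgroup.orderOf_coe] at hvo
    exact ⟨v, ⟨hvP, fun y hy => congrArg Subtype.val (Subgroup.mem_center_iff.1 hvc ⟨y, hy⟩),
      invol_mul_self hvo⟩, invol_ne_one hvo⟩
  -- no element of odd order fixes a nontrivial element of `V`
  have hfree : ∀ v ∈ V, ∀ y : G, Odd (orderOf y) → y ≠ 1 → y * v * y⁻¹ = v → v = 1 := by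
    intro v hv y hy hy1 he
    by_contra hv1
    refine hy1 (CIT.eq_one_of_odd_of_two (hcit v (invol_iff.2 ⟨hv.2.2, hv1⟩)) ?_ hy)
    exact CIT.mem_centralizer_singleton' (mul_inv_eq_iff_eq_mul.1 he)
  -- `j = f²` inverts some `y`
  set j := f ^ 2 with hj
  have hjo : orderOf j = 2 := by
    rw [hj, orderOf_pow, hfo]; rfl
  have hjP : j ∉ P := fun hm => by
    have h1 : (QuotientGroup.mk' P f) ^ 2 = 1 := by
      rw [← map_pow]; exact (QuotientGroup.eq_one_iff _).2 hm
    have := orderOf_dvd_of_pow_eq_one h1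
    rw [hx] at this
    norm_num at this
  obtain ⟨y, hy1, hyodd, hinv⟩ := Involutions.BaerSuzuki.exists_odd_inverted j hjo
    fun N hN hN2 hm => hjP (Cores.le_pCore (hN := hN) hN2 hm)
  -- actions on `V` as functions on `G`
  have hjj : j * j = 1 := invol_mul_self hjo
  have hjinv : j⁻¹ = j := invol_inv hjo
  have hcomm : ∀ a ∈ V, ∀ b ∈ V, a * b = b * a := fun a ha b hb => hb.2.1 a ha.1
  -- fixed points of `j` are norms
  have hnorm : ∀ w ∈ V, j * w * j⁻¹ = w → ∃ u ∈ V, w = u * (j * u * j⁻¹) := by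
    intro w hw hjw
    let θ : V → V := fun u => ⟨(u : G) * (y * u * y⁻¹), mul_mem u.2 (hconj y u u.2)⟩
    have hθmul : ∀ u u' : V, θ (u * u') = θ u * θ u' := fun u u' => Subtype.ext (by
      show (u : G) * u' * (y * (u * u') * y⁻¹) = u * (y * u * y⁻¹) * (u' * (y * u' * y⁻¹))
      have hc := hcomm (u' : G) u'.2 _ (hconj y u u.2)
      calc (u : G) * u' * (y * (u * u') * y⁻¹) = u * (u' * (y * u * y⁻¹)) * (y * u' * y⁻¹) := by group
        _ = _ := by rw [hc]; group)
    have hθinj : Function.Injective θ := by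
      intro a b hab
      have h1 : θ (a * b⁻¹) = 1 := by
        have := hθmul (a * b⁻¹) b
        rw [inv_mul_cancel_right, hab] at this
        exact mul_eq_right.1 this.symm
      have h2 : ((a * b⁻¹ : V) : G) * (y * (a * b⁻¹ : V) * y⁻¹) = 1 := congrArg Subtype.val h1
      set c : G := ((a * b⁻¹ : V) : G) with hc
      have hcV : c ∈ V := (a * b⁻¹ : V).2
      have hfix : y * c * y⁻¹ = c := by
        rw [← mul_left_cancel_iff (a := c), h2]; exact hcV.2.2.symm
      exact mul_inv_eq_one.1 (Subtype.ext (hfree c hcV y hyodd hy1 hfix))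
    obtain ⟨⟨u, hu⟩, hu'⟩ := Finite.surjective_of_injective hθinj ⟨w, hw⟩
    have huw : u * (y * u * y⁻¹) = w := congrArg Subtype.val hu'
    refine ⟨u, hu, ?_⟩
    set a := j * u * j⁻¹ with ha
    have haV : a ∈ V := hconj j u hu
    have hjy : j * y = y⁻¹ * j := by
      rw [← hinv]; group
    have h1 : w = a * (y⁻¹ * a * y) := by
      rw [← hjw, ← huw]
      calc j * (u * (y * u * y⁻¹)) * j⁻¹ = (j * u * j⁻¹) * ((j * y) * u * (j * y)⁻¹) := by group
        _ = a * (y⁻¹ * a * y) := by rw [hjy, ha]; group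
    have h2 : θ ⟨y * u * y⁻¹, hconj y u hu⟩ = θ ⟨a, haV⟩ := by
      refine Subtype.ext ?_
      show y * u * y⁻¹ * (y * (y * u * y⁻¹) * y⁻¹) = a * (y * a * y⁻¹)
      calc y * u * y⁻¹ * (y * (y * u * y⁻¹) * y⁻¹) = y * (u * (y * u * y⁻¹)) * y⁻¹ := by group
        _ = y * (a * (y⁻¹ * a * y)) * y⁻¹ := by rw [huw, h1]
        _ = (y * a * y⁻¹) * a := by group
        _ = a * (y * a * y⁻¹) := hcomm _ (hconj y a haV) a haV
    have h3 : y * u * y⁻¹ = a := congrArg Subtype.val (hθinj h2)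
    rw [← huw, h3]
  -- the norm of `f` vanishes
  have hN : ∀ v ∈ V, v * (f * v * f⁻¹) * (j * v * j⁻¹) * (j * (f * v * f⁻¹) * j⁻¹) = 1 := by
    intro v hv
    have hvf : (v * f) ^ 4 = v * (f * v * f⁻¹) * (j * v * j⁻¹) * (j * (f * v * f⁻¹) * j⁻¹) := by
      have hf4 : f ^ 4 = 1 := hfo ▸ pow_orderOf_eq_one f
      calc (v * f) ^ 4 = v * (f * v * f⁻¹) * (j * v * j⁻¹) * (j * (f * v * f⁻¹) * j⁻¹) * f ^ 4 := by
            rw [hj]; simp only [pow_succ, pow_zero, one_mul]; group
        _ = _ := by rw [hf4, mul_one]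
    rw [← hvf]
    have hmk : QuotientGroup.mk' P (v * f) = QuotientGroup.mk' P f := by
      rw [map_mul, QuotientGroup.mk'_apply P v, (QuotientGroup.eq_one_iff v).2 hv.1, one_mul]
    have h4d : 4 ∣ orderOf (v * f) := by
      have := orderOf_map_dvd (QuotientGroup.mk' P) (v * f)
      rwa [hmk, hx] at this
    obtain ⟨k, hk⟩ : ∃ k, orderOf (v * f) = 2 ^ k := ⟨_, Nat.eq_prime_pow_of_unique_prime_dvd
      (orderOf_pos _).ne' (fun {q} hq hqd => CITReduce.eq_two hcit hq hqd ((show 2 ∣ 4 by norm_num).trans h4d))⟩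
    have hk2 : k ≤ 2 := by
      by_contra hlt
      exact h.no_eight (v * f) (hk ▸ (show 8 = 2 ^ 3 by norm_num) ▸ Nat.pow_dvd_pow 2 (by omega))
    exact orderOf_dvd_iff_pow_eq_one.1 (hk ▸ (show 4 = 2 ^ 2 by norm_num) ▸ Nat.pow_dvd_pow 2 hk2)
  -- fixed points of `j` are fixed by `f`
  have hfixf : ∀ w ∈ V, j * w * j⁻¹ = w → f * w * f⁻¹ = w := by
    intro w hw hjw
    obtain ⟨u, hu, rfl⟩ := hnorm w hw hjw
    have hfj : f * j = j * f := by rw [hj]; exact ((Commute.refl f).pow_right 2).eq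
    have h1 := hN u hu
    rw [mul_assoc u, hcomm _ (hconj f u hu) _ (hconj j u hu), ← mul_assoc u, mul_assoc (u * _)] at h1
    have h2 : f * (u * (j * u * j⁻¹)) * f⁻¹ = f * u * f⁻¹ * (j * (f * u * f⁻¹) * j⁻¹) := by
      calc f * (u * (j * u * j⁻¹)) * f⁻¹ = f * u * f⁻¹ * ((f * j) * u * (f * j)⁻¹) := by group
        _ = _ := by rw [hfj]; group
    rw [h2, ← inv_eq_of_mul_eq_one_right h1, inv_eq_of_mul_eq_one_right hw.2.2]
  -- `j` centralises `V`
  have hjV : ∀ v ∈ V, j * v * j⁻¹ = v := by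
    intro v hv
    set x := v * (f * v * f⁻¹) with hx'
    have hxV : x ∈ V := mul_mem hv (hconj f v hv)
    have h1 := hN v hv
    rw [mul_assoc (v * _)] at h1
    have hjx : j * x * j⁻¹ = x := by
      rw [show j * x * j⁻¹ = j * v * j⁻¹ * (j * (f * v * f⁻¹) * j⁻¹) by rw [hx']; group,
        ← inv_eq_of_mul_eq_one_right h1, inv_eq_of_mul_eq_one_right hxV.2.2]
    have h2 := hfixf x hxV hjx
    rw [show f * x * f⁻¹ = f * v * f⁻¹ * (j * v * j⁻¹) by rw [hx', hj]; group, hx',
      hcomm v hv _ (hconj f v hv)] at h2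
    exact mul_left_cancel h2
  obtain ⟨v, hv, hv1⟩ := hVne
  refine hv1 (hfree v hv (y * y) ?_ ?_ ?_)
  · exact hyodd.of_dvd_nat (by rw [← pow_two]; exact orderOf_pow_dvd 2)
  · intro e
    have := orderOf_dvd_of_pow_eq_one (show y ^ 2 = 1 by rw [pow_two, e])
    rcases (Nat.dvd_prime Nat.prime_two).1 this with e' | e'
    · exact hy1 (orderOf_eq_one_iff.1 e')
    · rw [e'] at hyodd; exact absurd hyodd (by decide)
  · have h1 : j * (y * v * y⁻¹) * j⁻¹ = y⁻¹ * v * y := by
      calc j * (y * v * y⁻¹) * j⁻¹ = (j * y * j⁻¹) * (j * v * j⁻¹) * (j * y * j⁻¹)⁻¹ := by group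
        _ = y⁻¹ * v * y := by rw [hinv, hjV v hv]; group
    rw [hjV _ (hconj y v hv)] at h1
    calc y * y * v * (y * y)⁻¹ = y * (y * v * y⁻¹) * y⁻¹ := by group
      _ = y * (y⁻¹ * v * y) * y⁻¹ := by rw [h1]
      _ = v := by group

end Cfsg.Agent.Lib.ThreeOrders
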