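import Cfsg.Agent.Lib.ThreeOrders.OddKernel
import Cfsg.Agent.Lib.ThreeOrders.AutTwo
import Cfsg.Agent.Lib.OneComposite.Four
import Cfsg.Agent.Lib.CITSuzuki.Classification
import Cfsg.Agent.Lib.CITSuzuki.Lists
import Cfsg.Agent.Lib.FTClassSize.Basic

/-!
# Nonsolvable groups without elements of order four in which no prime divides three element orders

They are `PSL₂(2ⁿ)` or `PSL₂(q)` with `q ≡ ±3 (mod 8)`.

Owner: helper73.
-/

set_option autoImplicit false
set_option linter.style.haveILetI false
set_option linter.unusedSectionVars false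

namespace Cfsg.Agent.Lib.ThreeOrders

open Subgroup Cfsg.Agent.Lib.Involutions.Basic

universe u

/-- The outcome. -/
def EvenOrOdd (G : Type*) [Group G] : Prop :=
  (∃ (F : Type) (_ : Field F) (_ : Fintype F), (∃ n : ℕ, 2 ≤ n ∧ Fintype.card F = 2 ^ n) ∧
      Nonempty (G ≃* Matrix.ProjectiveSpecialLinearGroup (Fin 2) F)) ∨
  (∃ (F : Type) (_ : Field F) (_ : Fintype F), 5 < Fintype.card F ∧
      (Fintype.card F % 8 = 3 ∨ Fintype.card F % 8 = 5) ∧
      Nonempty (G ≃* Matrix.ProjectiveSpecialLinearGroup (Fin 2) F))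

section Elements

/-- A regular unipotent element of `PSL₃` in characteristic two has order four. -/
theorem exists_four_psl_three {F : Type} [Field F] [CharP F 2] :
    ∃ x : Matrix.ProjectiveSpecialLinearGroup (Fin 3) F, orderOf x = 4 := by
  haveI : Fact (Nat.Prime 2) := ⟨Nat.prime_two⟩
  let u : Matrix.SpecialLinearGroup (Fin 3) F :=
    ⟨!![1, 1, 0; 0, 1, 1; 0, 0, 1], by simp [Matrix.det_fin_three]⟩
  refine ⟨QuotientGroup.mk u, orderOf_eq_prime_pow (p := 2) (n := 1) (fun e => ?_) ?_⟩
  · rw [pow_one, ← QuotientGroup.mk_pow, QuotientGroup.eq_one_iff, Matrix.SpecialLinearGroup.mem_center_iff] at e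
    obtain ⟨r, -, hr⟩ := e
    have := congrArg (fun M : Matrix (Fin 3) (Fin 3) F => M 0 2) hr
    rw [Matrix.SpecialLinearGroup.coe_pow] at hr
    have h02 := congrArg (fun M : Matrix (Fin 3) (Fin 3) F => M 0 2) hr
    simp [u, pow_two, Matrix.mul_apply, Fin.sum_univ_three] at h02
  · rw [← QuotientGroup.mk_pow]
    have h2 : (2 : F) = 0 := CharTwo.two_eq_zero
    have : u ^ 2 ^ (1 + 1) = 1 := by
      refine Subtype.ext ?_
      rw [Matrix.SpecialLinearGroup.coe_pow, Matrix.SpecialLinearGroup.coe_one,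
        show (2 : ℕ) ^ (1 + 1) = 2 * 2 by norm_num, pow_mul, pow_two, pow_two]
      ext i j
      fin_cases i <;> fin_cases j <;>
        simp [u, Matrix.mul_apply, Fin.sum_univ_three] <;>
        (first | linear_combination h2 | linear_combination (2 : F) * h2 | linear_combination (3 : F) * h2)
    rw [this, QuotientGroup.mk_one]

theorem four_not_of_psl {G : Type*} [Group G] [Finite G] (h4 : NoFour G) {F : Type} [Field F] [Fintype F]
    (hodd : Odd (Fintype.card F)) (e : G ≃* Matrix.ProjectiveSpecialLinearGroup (Fin 2) F) :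
    Fintype.card F % 8 = 3 ∨ Fintype.card F % 8 = 5 := by
  obtain ⟨⟨x, hx, -⟩, ⟨y, hy, -⟩⟩ := CITSuzuki.Orders.psl_two_odd (F := F) hodd
  obtain ⟨x, rfl⟩ := e.surjective x
  obtain ⟨y, rfl⟩ := e.surjective y
  rw [MulEquiv.orderOf_eq] at hx hy
  have hq := Nat.odd_iff.1 hodd
  by_contra hne
  rcases (show 4 ∣ (Fintype.card F - 1) / 2 ∨ 4 ∣ (Fintype.card F + 1) / 2 by omega) with h | h
  · exact h4 x (h.trans hx)
  · exact h4 y (h.trans hy)

end Elements

section Simple

variable {G : Type u} [Group G] [Finite G] [IsSimpleGroup G]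

/-- The simple groups. -/
theorem simple_noFour (h : H3 G) (h4 : NoFour G) (hG : ¬ IsMulCommutative G) : EvenOrOdd G := by
  haveI : Fact (Nat.Prime 2) := ⟨Nat.prime_two⟩
  have hna : ∃ a b : G, a * b ≠ b * a := by
    by_contra hc
    push Not at hc
    exact hG ⟨⟨hc⟩⟩
  have hodd : ∀ {F : Type} [Field F] [Fintype F], Odd (Fintype.card F) →
      (G ≃* Matrix.ProjectiveSpecialLinearGroup (Fin 2) F) → EvenOrOdd G := by
    intro F _ _ hF e
    have h8 := four_not_of_psl h4 hF e
    have := CITSuzuki.Lists.five_le_of_simple hna e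
    rcases Nat.lt_or_ge 5 (Fintype.card F) with h5 | h5
    · exact Or.inr ⟨F, _, _, h5, h8, ⟨e⟩⟩
    · have := Nat.odd_iff.1 hF
      obtain ⟨K, iK, iK', hK, he⟩ := CITSuzuki.Lists.psl_two_five_to_four (show Fintype.card F = 5 by omega) e
      exact Or.inl ⟨K, iK, iK', ⟨2, le_rfl, hK⟩, he⟩
  by_cases hex : ∀ p : ℕ, p.Prime → p ≠ 2 → ¬ ∃ x : G, orderOf x = 2 * p
  · rcases CITSuzuki.simpleCITClass G hna (CITReduce.isCIT_of_forall hex) with
      ⟨F, iF, iT, hF, ⟨e⟩⟩ | ⟨F, iF, iT, hF, ⟨e⟩⟩ | ⟨F, iF, iT, m, hm, hF, ⟨e⟩⟩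
    · rcases hF with h9 | ⟨n, hn⟩ | ⟨hp, -⟩
      · exact hodd (by rw [h9]; decide) e
      · have := CITSuzuki.Lists.five_le_of_simple hna e
        refine Or.inl ⟨F, iF, iT, ⟨n, ?_, hn⟩, ⟨e⟩⟩
        by_contra hlt
        interval_cases n <;> simp at hn <;> omega
      · refine hodd (hp.odd_of_ne_two fun e2 => ?_) e
        have := CITSuzuki.Lists.five_le_of_simple hna e
        omega
    · haveI : CharP F 2 := charP_of_card_eq_prime_pow (f := 2) (by rw [hF]; rfl)
      obtain ⟨x, hx⟩ := exists_four_psl_three (F := F)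
      exact absurd (by rw [MulEquiv.orderOf_eq, hx] : 4 ∣ orderOf (e.symm x)) (h4 _)
    · obtain ⟨g, hg⟩ := CITSuzuki.Lists.exists_of_sz ⟨hF⟩ hm e (CITSuzuki.Orders.sz_four ⟨hF⟩ hm)
      exact absurd (dvd_of_eq hg.symm) (h4 g)
  push Not at hex
  obtain ⟨p, hp, hp2, x, hx⟩ := hex
  have h2 := h.two_of_order hp hp2 hx
  obtain ⟨T⟩ : Nonempty (Sylow 2 G) := inferInstance
  have hT := four_le_sylow hG T
  obtain ⟨k, hk⟩ := IsPGroup.iff_card.1 T.2
  rcases (show Nat.card (T : Subgroup G) = 4 ∨ 8 ≤ Nat.card (T : Subgroup G) by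
    rw [hk] at hT ⊢
    rcases Nat.lt_or_ge k 3 with hk3 | hk3
    · interval_cases k <;> simp at hT ⊢
    · exact Or.inr ((show 8 = 2 ^ 3 by norm_num) ▸ Nat.pow_le_pow_right (by norm_num) hk3)) with hT4 | hT8
  · rcases h2.four_cases T hT4 hG with hc | ⟨F, iF, iT, hF, ⟨e⟩⟩
    · exact (h2.false_of_coreNormal T hc hT).elim
    · exact hodd hF e
  · exact (h2.false_of_coreNormal T (h2.coreNormal_of_eight T hT8) hT).elim

end Simple

variable {G : Type u} [Group G] [Finite G]

theorem rad_eq_bot (h2 : Cfsg.pCore 2 G = ⊥) (ho : Cfsg.pPrimeCore 2 G = ⊥) (N : Subgroup G)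
    (hNn : N.Normal) (hN : Group.IsSolvable N) : N = ⊥ := by
  haveI := hNn
  by_contra hN1
  obtain ⟨V, hVn, hVN, hV1, hmin⟩ := Cores.MinNormal.exists_minimal_le hN1
  haveI := hVn
  haveI : Group.IsSolvable V := haveI := hN; Group.isSolvable_of_isSolvable_injective
    (f := Subgroup.inclusion hVN) (Subgroup.inclusion_injective _)
  haveI := Cores.MinNormal.isMulCommutative_of_solvable hV1 hmin
  obtain ⟨p, hp, hexp⟩ := Cores.MinNormal.exists_prime_pow_eq_one hV1 hmin
  haveI := Fact.mk hp
  have hVp := Cores.MinNormal.isPGroup_of_pow_eq_one hexp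
  rcases eq_or_ne p 2 with rfl | hp2
  · have hle := Cores.le_pCore hVp
    rw [h2] at hle; exact hV1 (le_bot_iff.1 hle)
  · obtain ⟨k, hk⟩ := hVp.exists_card_eq
    have hle := Cores.le_pPrimeCore (p := 2) (N := V)
      (by rw [hk]; exact ((Nat.coprime_primes hp Nat.prime_two).2 hp2).pow_left k)
    rw [ho] at hle; exact hV1 (le_bot_iff.1 hle)

theorem not_isSolvable_quotient (hns : ¬ Group.IsSolvable G) (N : Subgroup G) [N.Normal]
    (hN : Group.IsSolvable N) : ¬ Group.IsSolvable (G ⧸ N) := fun hq => by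
  haveI := hq
  haveI := hN
  exact hns (Group.isSolvable_of_ker_le_range N.subtype (QuotientGroup.mk' N) (by
    rw [QuotientGroup.ker_mk', Subgroup.range_subtype]))

theorem pPrimeCore_eq_bot (h : H3 G) (h4 : NoFour G) (hns : ¬ Group.IsSolvable G) :
    Cfsg.pPrimeCore 2 G = ⊥ := by
  by_contra hne
  set O := Cfsg.pPrimeCore 2 G with hO
  haveI : O.Normal := by rw [hO]; infer_instance
  have hodd : Odd (Nat.card O) := Nat.coprime_two_right.1 (Cores.pPrimeCore_coprime 2)
  have hnsQ := not_isSolvable_quotient hns O (Cfsg.Agent.S0205.result hodd)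
  obtain ⟨S, hSn, hsim, hna, -⟩ := socle (h.quotient O).sc hnsQ
    (rad_eq_bot (pCore_eq_bot (h4.quotient O) (h.quotient O).sc hnsQ)
      (Cores.pPrimeCore_quotient_pPrimeCore 2))
  haveI := hsim
  set K := S.comap (QuotientGroup.mk' O) with hK
  let f : K →* S := ((QuotientGroup.mk' O).comp K.subtype).codRestrict S fun x => x.2
  have hf : Function.Surjective f := by
    rintro ⟨y, hy⟩
    obtain ⟨x, rfl⟩ := QuotientGroup.mk'_surjective O y
    exact ⟨⟨x, hy⟩, rfl⟩
  have hker : f.ker = O.subgroupOf K := by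
    ext x
    rw [MonoidHom.mem_ker, Subgroup.mem_subgroupOf]
    exact Subtype.ext_iff.trans (QuotientGroup.eq_one_iff (x : G))
  have hOK : O ≤ K := fun x hx => by
    rw [hK, Subgroup.mem_comap, QuotientGroup.mk'_apply, (QuotientGroup.eq_one_iff x).2 hx]
    exact one_mem _
  refine false_of_odd_kernel hna (h.subgroup K) (h4.subgroup K) f hf ?_ ?_
  · rw [hker, Nat.card_congr (Subgroup.subgroupOfEquivOfLe hOK).toEquiv]
    exact hodd
  · rw [hker]
    intro hb
    exact hne (le_bot_iff.1 fun x hx => by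
      have : (⟨x, hOK hx⟩ : K) ∈ O.subgroupOf K := hx
      rw [hb, Subgroup.mem_bot] at this
      simpa using congrArg Subtype.val this)

/-- The groups. -/
theorem noFour_main (h : H3 G) (h4 : NoFour G) (hns : ¬ Group.IsSolvable G) :
    Cfsg.pCore 2 G = ⊥ ∧ EvenOrOdd G := by
  classical
  have h2 := pCore_eq_bot h4 h.sc hns
  refine ⟨h2, ?_⟩
  obtain ⟨S, hSn, hsim, hna, hC⟩ := socle h.sc hns (rad_eq_bot h2 (pPrimeCore_eq_bot h h4 hns))
  haveI := hsim
  haveI := hSn
  have hlist := simple_noFour (h.subgroup S) (h4.subgroup S) hna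
  suffices htop : S = ⊤ by
    obtain ⟨eG⟩ : Nonempty (G ≃* S) := ⟨(Subgroup.topEquiv.symm).trans (MulEquiv.subgroupCongr htop.symm)⟩
    exact hlist.imp (fun ⟨F, iF, iT, hn, ⟨e⟩⟩ => ⟨F, iF, iT, hn, ⟨eG.trans e⟩⟩)
      (fun ⟨F, iF, iT, h5, h8, ⟨e⟩⟩ => ⟨F, iF, iT, h5, h8, ⟨eG.trans e⟩⟩)
  have main : ∀ {F : Type} [Field F] [Fintype F],
      (S ≃* Matrix.ProjectiveSpecialLinearGroup (Fin 2) F) →
      ((∃ n : ℕ, 2 ≤ n ∧ Fintype.card F = 2 ^ n) ∨
        Fintype.card F % 8 = 3 ∨ Fintype.card F % 8 = 5) → S = ⊤ := by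
    intro F _ _ e hq
    let Φ : G →* MulAut (Matrix.ProjectiveSpecialLinearGroup (Fin 2) F) :=
      (MulAut.congr e).toMonoidHom.comp (MulAut.conjNormal : G →* MulAut S)
    have hinj : Function.Injective Φ := by
      refine (MulAut.congr e).injective.comp ?_
      rw [injective_iff_map_eq_one]
      intro g hg
      refine Subgroup.mem_bot.1 (hC ▸ Subgroup.mem_centralizer_iff.2 fun s hs => ?_)
      have := congrArg (fun a : MulAut S => ((a ⟨s, hs⟩ : S) : G)) hg
      simp only [MulAut.conjNormal_apply, MulAut.one_apply] at this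
      exact (mul_inv_eq_iff_eq_mul.1 this).symm
    have hS : ∀ s : S, Φ (s : G) = MulAut.conj (e s) := fun s => by
      refine MulEquiv.ext fun x => ?_
      show e ((MulAut.conjNormal (s : G) : MulAut S) (e.symm x)) = e s * x * (e s)⁻¹
      rw [show (MulAut.conjNormal (s : G) : MulAut S) (e.symm x) = s * e.symm x * s⁻¹ from
        Subtype.ext (MulAut.conjNormal_apply _ _), map_mul, map_mul, map_inv, e.apply_symm_apply]
    have hinn : ∀ x, ∃ g : G, Φ g = MulAut.conj x := fun x =>
      ⟨(e.symm x : S), by rw [hS, e.apply_symm_apply]⟩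
    obtain ⟨p, f, hp, hcard⟩ : ∃ p f : ℕ, p.Prime ∧ Fintype.card F = p ^ f := by
      obtain ⟨p, f, hp, -, hc⟩ := (isPrimePow_nat_iff _).1 (Fintype.isPrimePow_card_of_field (α := F))
      exact ⟨p, f, hp, hc.symm⟩
    haveI := Fact.mk hp
    haveI : CharP F p := charP_of_card_eq_prime_pow hcard
    have hauts : Nat.card (F ≃+* F) = f := AutPSL.card_fieldAuts hcard
    haveI : Finite (F ≃+* F) := Finite.of_injective _ DFunLike.coe_injective
    -- in odd characteristic the degree is odd
    have hdeg : p ≠ 2 → Odd f := by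
      intro hp2
      have hq8 : Fintype.card F % 8 = 3 ∨ Fintype.card F % 8 = 5 := by
        rcases hq with ⟨n, hn, hc⟩ | h8
        · exfalso
          rw [hcard] at hc
          exact hp2 ((Nat.prime_dvd_prime_iff_eq hp Nat.prime_two).1 (hp.dvd_of_dvd_pow
            (hc ▸ dvd_pow_self p (by
              rintro rfl
              rw [pow_zero] at hc
              exact absurd hc (Nat.one_lt_two_pow (by omega)).ne) : p ∣ 2 ^ n)))
        · exact h8
      refine Nat.not_even_iff_odd.1 fun ⟨j, hj⟩ => ?_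
      rw [hcard, hj, pow_add, Nat.mul_mod] at hq8
      have hlt : p ^ j % 8 < 8 := Nat.mod_lt _ (by norm_num)
      generalize p ^ j % 8 = r at hq8 hlt
      interval_cases r <;> omega
    have hdet : ∀ (g : G) (A : GL (Fin 2) F) (σ : F ≃+* F),
        Φ g = AutPSL.conjAut A * AutPSL.fieldAut σ →
          IsSquare ((Matrix.GeneralLinearGroup.det A : Fˣ) : F) := by
      intro g A σ hg
      by_cases hp2 : p = 2
      · exact FiniteField.isSquare_of_char_two (ringChar.eq_iff.2 (hp2 ▸ inferInstance)) _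
      by_contra hA
      have hq8 : Fintype.card F % 8 = 3 ∨ Fintype.card F % 8 = 5 := hq.resolve_left fun ⟨n, hn, hc⟩ => by
        rw [hcard] at hc
        have : Even (p ^ f) := hc ▸ Nat.even_pow.2 ⟨even_two, by omega⟩
        exact hp2 ((Nat.Prime.even_iff hp).1 (Nat.even_pow.1 this).1)
      obtain ⟨x, hx⟩ := AutTwo.four_dvd_of_nonsquare Φ hinj hinn
        (fun hsq => by rw [FiniteField.isSquare_two_iff] at hsq; omega) (hauts ▸ hdeg hp2) hg hA
      exact h4 x (dvd_of_eq hx.symm)
    refine (Subgroup.eq_top_iff' S).2 fun g => ?_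
    suffices hpr : ∀ (g : G) (τ : F ≃+* F) (l : ℕ), l.Prime → orderOf τ = l → orderOf g = l →
        Φ g = AutPSL.fieldAut τ → False by
      obtain ⟨x, hx⟩ := AutTwo.inner_of_prime_field Φ hinj hinn hdet hpr g
      have : g = (e.symm x : S) := hinj (by rw [hx, hS, e.apply_symm_apply])
      exact this ▸ (e.symm x).2
    intro g τ l hl hτ hgl hg
    haveI := Fact.mk hl
    have hcomm : ∀ {s : Matrix.SpecialLinearGroup (Fin 2) F}, AutPSL.fieldSL τ s = s →
        Commute g (e.symm (QuotientGroup.mk s) : S) := fun {s} hs => hinj (by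
      rw [map_mul, map_mul, hg, hS, e.apply_symm_apply]
      exact AutTwo.commute_fixed hs)
    have hmul : ∀ {a : G} {n : ℕ}, Commute g a → orderOf a = n → l.Coprime n → orderOf (g * a) = l * n :=
      fun {a n} hc ha hcop => by
        rw [hc.orderOf_mul_eq_mul_orderOf_of_coprime (by rw [hgl, ha]; exact hcop), hgl, ha]
    have hoS : ∀ y : Matrix.ProjectiveSpecialLinearGroup (Fin 2) F,
        orderOf ((e.symm y : S) : G) = orderOf y := fun y => by
      rw [Subgroup.orderOf_coe, MulEquiv.orderOf_eq]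
    have hlf : l ∣ f := hauts ▸ hτ ▸ orderOf_dvd_natCard τ
    rcases eq_or_ne l 2 with rfl | hl2
    · -- a field automorphism of order two
      obtain rfl : p = 2 := by
        by_contra hp2
        exact Nat.not_even_iff_odd.2 (hdeg hp2) (even_iff_two_dvd.2 hlf)
      obtain ⟨a, ha⟩ : ∃ a : F, τ a ≠ a := by
        by_contra hall
        push Not at hall
        rw [show τ = 1 from RingEquiv.ext hall, orderOf_one] at hτ
        omega
      have hττ : ∀ b : F, τ (τ b) = b := fun b => by
        have h1 : τ ^ 2 = 1 := hτ ▸ pow_orderOf_eq_one τ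
        rw [pow_two] at h1
        exact congrArg (fun σ : F ≃+* F => σ b) h1
      set u : G := ((e.symm (QuotientGroup.mk (AutTwo.uSL a)) : S) : G) with hu
      have hsq : Φ ((g * u) ^ 2) = MulAut.conj (QuotientGroup.mk (AutTwo.uSL (τ a + a)) :
          Matrix.ProjectiveSpecialLinearGroup (Fin 2) F) := by
        rw [pow_two, map_mul, map_mul, hg, hu, hS, e.apply_symm_apply]
        refine MulEquiv.ext fun y => ?_
        obtain ⟨s, rfl⟩ := QuotientGroup.mk_surjective y
        simp only [MulAut.mul_apply, MulAut.conj_apply, map_mul, map_inv, AutPSL.fieldAut_mk,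
          AutTwo.fieldSL_u, ← QuotientGroup.mk_mul, ← QuotientGroup.mk_inv]
        congr 1
        rw [← AutTwo.uSL_mul, show AutPSL.fieldSL τ (AutPSL.fieldSL τ s) = s from Subtype.ext
          (Matrix.ext fun i j => by simp [AutPSL.coe_fieldSL, hττ])]
        simp only [hττ]
        group
      refine h4 (g * u) (dvd_of_eq (orderOf_eq_prime_pow (p := 2) (n := 1) (fun e1 => ?_) ?_).symm)
      · rw [pow_one] at e1
        rw [e1, map_one] at hsq
        have hb : τ a + a ≠ 0 := fun e0 => ha (by rwa [CharTwo.add_eq_zero] at e0)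
        obtain ⟨gs, hgs⟩ := hinn (QuotientGroup.mk (AutTwo.uSL (τ a + a)))
        have h1 : (gs : G) = 1 := hinj (by rw [hgs, ← hsq, map_one])
        have h2 := hS (e.symm (QuotientGroup.mk (AutTwo.uSL (τ a + a))))
        rw [e.apply_symm_apply, ← hgs, h1, map_one] at h2
        have h3 : ((e.symm (QuotientGroup.mk (AutTwo.uSL (τ a + a))) : S) : G) = 1 :=
          hinj (by rw [h2, map_one])
        exact AutTwo.mk_u_ne_one hb (by simpa using h3)
      · refine hinj ?_
        rw [show (2 : ℕ) ^ (1 + 1) = 2 * 2 by norm_num, pow_mul, map_pow, hsq, ← map_pow, ← QuotientGroup.mk_pow,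
          pow_two, AutTwo.uSL_mul, CharTwo.add_self_eq_zero, map_one,
          show AutTwo.uSL (0 : F) = 1 from Subtype.ext (by ext i j; fin_cases i <;> fin_cases j <;> simp [AutTwo.uSL]),
          QuotientGroup.mk_one, map_one]
    · -- odd prime order
      have hw := hmul (hcomm (AutTwo.fieldSL_w τ)) ((hoS _).trans AutTwo.orderOf_w)
        ((Nat.coprime_primes hl Nat.prime_two).2 hl2)
      have h2' := h.two_of_order hl hl2 (x := g * _) (hw.trans (mul_comm l 2))
      obtain rfl : l = 3 := by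
        by_contra hl3
        have hz := hmul (hcomm (AutTwo.fieldSL_z τ)) ((hoS _).trans AutTwo.orderOf_z)
          ((Nat.coprime_primes hl Nat.prime_three).2 hl3)
        have := hl.two_le
        rcases h2'.cases_p (hz ▸ dvd_mul_right l 3) with e1 | e1 <;> rw [hz] at e1 <;> omega
      have hnine : ∀ x : G, ¬ 9 ∣ orderOf x := fun x h9 => by
        rcases h2'.cases_p ((show 3 ∣ 9 by norm_num).trans h9) with e1 | e1 <;> rw [e1] at h9 <;> omega
      rcases eq_or_ne p 2 with rfl | hp2
      · obtain ⟨j, hj⟩ := hlf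
        have h89 : 2 ^ f % 9 = 1 ∨ 2 ^ f % 9 = 8 := by
          rw [hj, pow_mul, Nat.pow_mod]
          rcases Nat.even_or_odd j with ⟨i, rfl⟩ | ⟨i, rfl⟩
          · left; rw [← two_mul, pow_mul, Nat.pow_mod]; norm_num
          · right; rw [pow_succ, pow_mul, Nat.mul_mod, Nat.pow_mod]; norm_num
        obtain ⟨⟨x, hx⟩, ⟨y, hy⟩⟩ := CITSuzuki.Orders.psl_two_even (F := F)
          (by rw [hcard]; exact Nat.even_pow.2 ⟨even_two, fun e0 => by
            rw [e0, pow_zero] at hcard
            have := Fintype.one_lt_card (α := F); omega⟩)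
        rw [hcard] at hx hy
        rcases h89 with h1 | h1
        · exact hnine ((e.symm x : S) : G) (by rw [hoS, hx]; omega)
        · exact hnine ((e.symm y : S) : G) (by rw [hoS, hy]; omega)
      rcases eq_or_ne p 3 with rfl | hp3
      · -- characteristic three: an element of order nine
        obtain ⟨a, ha⟩ : ∃ a : F, a + τ a + τ (τ a) ≠ 0 := by
          by_contra hall
          push Not at hall
          have hindep := linearIndependent_monoidHom F F
          have hinj3 : Function.Injective (fun i : Fin 3 => ((τ ^ (i : ℕ) : F ≃+* F).toRingHom : F →* F)) := by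
            intro i j hij
            have h1 : τ ^ (i : ℕ) = τ ^ (j : ℕ) := RingEquiv.ext fun b => DFunLike.congr_fun hij b
            exact Fin.ext (pow_injOn_Iio_orderOf (by simp [hτ]) (by simp [hτ]) h1)
          have h3 := Fintype.linearIndependent_iff.1 (hindep.comp _ hinj3) (fun _ => (1 : F)) (funext fun b => by
            simp [Fin.sum_univ_three]
            exact hall b) 0
          exact one_ne_zero h3
        have hτ3 : ∀ b : F, τ (τ (τ b)) = b := fun b => by
          have h1 : τ ^ 3 = 1 := hτ ▸ pow_orderOf_eq_one τ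
          rw [pow_succ, pow_two] at h1
          exact congrArg (fun σ : F ≃+* F => σ b) h1
        set u : G := ((e.symm (QuotientGroup.mk (AutTwo.uSL a)) : S) : G) with hu
        have hcube : Φ ((g * u) ^ 3) = MulAut.conj (QuotientGroup.mk (AutTwo.uSL (τ a + τ (τ a) + a)) :
            Matrix.ProjectiveSpecialLinearGroup (Fin 2) F) := by
          rw [pow_succ, pow_two, map_mul, map_mul, map_mul, hg, hu, hS, e.apply_symm_apply]
          refine MulEquiv.ext fun y => ?_
          obtain ⟨s, rfl⟩ := QuotientGroup.mk_surjective y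
          simp only [MulAut.mul_apply, MulAut.conj_apply, map_mul, map_inv, AutPSL.fieldAut_mk,
            AutTwo.fieldSL_u, ← QuotientGroup.mk_mul, ← QuotientGroup.mk_inv]
          congr 1
          rw [← AutTwo.uSL_mul, ← AutTwo.uSL_mul, show AutPSL.fieldSL τ (AutPSL.fieldSL τ (AutPSL.fieldSL τ s)) = s from
            Subtype.ext (Matrix.ext fun i j => by simp [AutPSL.coe_fieldSL, hτ3]), hτ3]
          group
        refine hnine (g * u) (dvd_of_eq (orderOf_eq_prime_pow (p := 3) (n := 1) (fun e1 => ?_) ?_).symm)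
        · rw [pow_one] at e1
          rw [e1, map_one] at hcube
          have hb : τ a + τ (τ a) + a ≠ 0 := fun e0 => ha (by rw [← e0]; ring)
          have h2 := hS (e.symm (QuotientGroup.mk (AutTwo.uSL (τ a + τ (τ a) + a))))
          rw [e.apply_symm_apply, ← hcube] at h2
          have h3 := hinj (h2.trans (map_one Φ).symm)
          exact AutTwo.mk_u_ne_one hb (by simpa using h3)
        · refine hinj ?_
          rw [show (3 : ℕ) ^ (1 + 1) = 3 * 3 by norm_num, pow_mul, map_pow, hcube, ← map_pow,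
            ← QuotientGroup.mk_pow, pow_succ, pow_two, AutTwo.uSL_mul, AutTwo.uSL_mul, map_one]
          have h30 : (3 : F) = 0 := by exact_mod_cast CharP.cast_eq_zero F 3
          rw [show τ a + τ (τ a) + a + (τ a + τ (τ a) + a) + (τ a + τ (τ a) + a) = 0 by
              linear_combination (τ a + τ (τ a) + a) * h30,
            show AutTwo.uSL (0 : F) = 1 from Subtype.ext (by ext i j; fin_cases i <;> fin_cases j <;> simp [AutTwo.uSL]),
            QuotientGroup.mk_one, map_one]
      · -- a transvection centralised by `g`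
        have hu1 : orderOf (QuotientGroup.mk (AutTwo.uSL (1 : F)) :
            Matrix.ProjectiveSpecialLinearGroup (Fin 2) F) = p := by
          refine orderOf_eq_prime ?_ (AutTwo.mk_u_ne_one one_ne_zero)
          have hpow : ∀ k : ℕ, AutTwo.uSL (1 : F) ^ k = AutTwo.uSL ((k : F)) := by
            intro k
            induction k with
            | zero =>
              rw [pow_zero, Nat.cast_zero]
              exact Subtype.ext (by ext i j; fin_cases i <;> fin_cases j <;> simp [AutTwo.uSL])
            | succ k ih => rw [pow_succ, ih, AutTwo.uSL_mul, Nat.cast_succ]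
          rw [← QuotientGroup.mk_pow, hpow, CharP.cast_eq_zero,
            show AutTwo.uSL (0 : F) = 1 from Subtype.ext (by ext i j; fin_cases i <;> fin_cases j <;> simp [AutTwo.uSL]),
            QuotientGroup.mk_one]
        have hgu := hmul (hcomm (by rw [AutTwo.fieldSL_u, map_one])) ((hoS _).trans hu1)
          ((Nat.coprime_primes hl hp).2 hp3.symm)
        have := hp.two_le
        rcases h2'.cases_p (hgu ▸ dvd_mul_right 3 p) with e1 | e1 <;> rw [hgu] at e1 <;> omega
  rcases hlist with ⟨F, _, _, hn, ⟨e⟩⟩ | ⟨F, _, _, -, h8, ⟨e⟩⟩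
  · exact main e (Or.inl hn)
  · exact main e (Or.inr h8)

end Cfsg.Agent.Lib.ThreeOrders
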