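import Cfsg.Agent.Lib.ThreeOrders.Basic
import Cfsg.Agent.Lib.OneComposite.Endgame
import Cfsg.Agent.Lib.Involutions.StronglyEmbedded
import Cfsg.Agent.Lib.Signalizer.Members
import Cfsg.Agent.Lib.Cores.InvariantSylow
import Cfsg.Agent.S0204

/-!
# Without elements of order four: one class of involutions, and no odd core

Owner: helper73.
-/

set_option autoImplicit false
set_option linter.style.haveILetI false
set_option linter.unusedSectionVars false

namespace Cfsg.Agent.Lib.ThreeOrders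

open Subgroup Cfsg.Agent.Lib.Involutions.Basic
open scoped Pointwise

variable {G : Type*} [Group G] [Finite G]

theorem four_le_sylow [IsSimpleGroup G] (hG : ¬ IsMulCommutative G) (T : Sylow 2 G) :
    4 ≤ Nat.card (T : Subgroup G) := by
  haveI : Fact (Nat.Prime 2) := ⟨Nat.prime_two⟩
  obtain ⟨E, hE⟩ := Cfsg.Agent.S0204.result (G := G) fun hc => hG hc.isMulCommutative
  exact Nat.le_of_dvd Nat.card_pos (T.pow_dvd_card_of_pow_dvd_card (n := 2) (by
    have := E.card_subgroup_dvd_card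
    rwa [hE.card_four] at this))

/-- A simple group without elements of order four has one class of involutions. -/
theorem isConj_invol [IsSimpleGroup G] (h : H3 G) (h4 : NoFour G) (hG : ¬ IsMulCommutative G) {s t : G}
    (hs : orderOf s = 2) (ht : orderOf t = 2) : IsConj s t := by
  haveI : Fact (Nat.Prime 2) := ⟨Nat.prime_two⟩
  obtain ⟨T⟩ : Nonempty (Sylow 2 G) := inferInstance
  have hT := four_le_sylow hG T
  by_cases hex : ∀ p : ℕ, p.Prime → p ≠ 2 → ¬ ∃ x : G, orderOf x = 2 * p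
  · have hcit := CITReduce.isCIT_of_forall hex
    have hcen : ∀ (S : Sylow 2 G), ∀ u ∈ (S : Subgroup G), u ≠ 1 → centralizer ({u} : Set G) = S := by
      intro S u hu hu1
      exact S.3 (hcit u (invol_iff.2 ⟨h4.sq_of_mem S.2 hu, hu1⟩)) fun x hx =>
        mem_centralizer_singleton_iff.2 (h4.comm_of_mem S.2 hx hu)
    have hnn : ¬ (T : Subgroup G).Normal := fun hn => by
      rcases hn.eq_bot_or_eq_top with e | e
      · rw [e, Subgroup.card_bot] at hT; omega
      · exact hG ⟨⟨fun a b => h4.comm_of_mem T.2 (e ▸ mem_top a) (e ▸ mem_top b)⟩⟩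
    have hse := Involutions.StronglyEmbedded.isStronglyEmbedded_normalizer_of_ti T hnn fun g hg => by
      by_contra hne
      obtain ⟨u, ⟨hu1', hu2⟩, hu1⟩ := (MulAut.conj g • (T : Subgroup G) ⊓ T).bot_or_exists_ne_one.resolve_left hne
      refine hg ?_
      have h1 := hcen (g • T) u (by rwa [Sylow.coe_subgroup_smul]) hu1
      rw [hcen T u hu2 hu1, Sylow.coe_subgroup_smul] at h1
      exact h1.symm
    exact Involutions.StronglyEmbedded.isConj_involutions hse hs ht
  push Not at hex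
  obtain ⟨p, hp, hp2, x, hx⟩ := hex
  have h2 := h.two_of_order hp hp2 hx
  obtain ⟨k, hk⟩ := IsPGroup.iff_card.1 T.2
  rcases (show Nat.card (T : Subgroup G) = 4 ∨ 8 ≤ Nat.card (T : Subgroup G) by
    rw [hk] at hT ⊢
    rcases Nat.lt_or_ge k 3 with hk3 | hk3
    · interval_cases k <;> simp at hT ⊢
    · exact Or.inr ((show 8 = 2 ^ 3 by norm_num) ▸ Nat.pow_le_pow_right (by norm_num) hk3)) with hT4 | hT8
  · obtain ⟨a, ha⟩ := h2.exists_conj_mem T hs
    obtain ⟨b, hb⟩ := h2.exists_conj_mem T ht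
    obtain ⟨n, -, hn⟩ := h2.transitive T hT4 hG ha (invol_ne_one ((orderOf_conj_eq a s).trans hs)) hb
      (invol_ne_one ((orderOf_conj_eq b t).trans ht))
    exact (isConj_iff.2 ⟨a, rfl⟩).trans ((isConj_iff.2 ⟨n, hn⟩).trans (isConj_iff.2 ⟨b, rfl⟩).symm)
  · exact (h2.false_of_coreNormal T (h2.coreNormal_of_eight T hT8) hT).elim

/-- No odd kernel over a simple group. -/
theorem false_of_odd_kernel {S : Type*} [Group S] [Finite S] [IsSimpleGroup S] (hS : ¬ IsMulCommutative S)
    (h : H3 G) (h4 : NoFour G) (f : G →* S) (hf : Function.Surjective f) (hodd : Odd (Nat.card f.ker))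
    (hne : f.ker ≠ ⊥) : False := by
  haveI : Fact (Nat.Prime 2) := ⟨Nat.prime_two⟩
  obtain ⟨T⟩ : Nonempty (Sylow 2 G) := inferInstance
  have hT : 4 ≤ Nat.card (T : Subgroup G) := by
    obtain ⟨E, hE⟩ := Cfsg.Agent.S0204.result (G := S) fun hc => hS hc.isMulCommutative
    refine Nat.le_of_dvd Nat.card_pos (T.pow_dvd_card_of_pow_dvd_card (n := 2) ?_)
    have := E.card_subgroup_dvd_card
    rw [hE.card_four] at this
    exact this.trans (Subgroup.card_dvd_of_surjective f hf)
  set O := f.ker with hO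
  have hA : Cfsg.IsElementaryAbelian 2 (T : Subgroup G) :=
    ⟨⟨⟨fun u v => Subtype.ext (h4.comm_of_mem T.2 u.2 v.2)⟩⟩,
      fun a ha => by rw [pow_two]; exact h4.sq_of_mem T.2 ha⟩
  have hO2 : ¬ 2 ∣ Nat.card O := fun hd => Nat.not_even_iff_odd.2 hodd (even_iff_two_dvd.2 hd)
  -- an involution centralises a nontrivial element of every invariant subgroup of `O`
  have key : ∀ Q : Subgroup G, Q ≤ O → Q ≠ ⊥ → (T : Subgroup G) ≤ normalizer (Q : Set G) →
      ∃ b ∈ (T : Subgroup G), b ≠ 1 ∧ ∃ x ∈ Q, x ≠ 1 ∧ Commute x b := by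
    intro Q hQO hQ hQT
    by_contra hno
    push Not at hno
    refine hQ (le_bot_iff.1 (Signalizer.le_of_hyp hA hQT (fun hd => hO2 (hd.trans (card_dvd_of_le hQO)))
      fun B hB => ?_))
    obtain ⟨b, hbB, hb1⟩ : ∃ b ∈ B, b ≠ (1 : G) := B.bot_or_exists_ne_one.resolve_left fun e => by
      have := hB.2
      rw [e, Subgroup.relIndex_bot_left] at this
      omega
    intro x hx
    refine Subgroup.mem_bot.2 ?_
    by_contra hx1
    exact hno b (hB.1 hbB) hb1 x hx.1 hx1 (mem_centralizer_iff.1 hx.2 b hbB).symm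
  obtain ⟨b, hb, hb1, x, hx, hx1, hxb⟩ := key O le_rfl hne (by
    rw [Subgroup.normalizer_eq_top_iff.2 (inferInstance : O.Normal)]; exact le_top)
  obtain ⟨r, hr, hrd⟩ := Nat.exists_prime_and_dvd (fun e => hx1 (orderOf_eq_one_iff.1 e) : orderOf x ≠ 1)
  have hr2 : r ≠ 2 := by
    rintro rfl
    exact hO2 (hrd.trans (Subgroup.orderOf_dvd_natCard O hx))
  have hbo : orderOf b = 2 := invol_iff.2 ⟨h4.sq_of_mem T.2 hb, hb1⟩
  set y := x ^ (orderOf x / r) with hy
  have hyo : orderOf y = r := orderOf_pow_orderOf_div (orderOf_pos x).ne' hrd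
  have hyb : orderOf (b * y) = 2 * r := by
    have hc : Commute b y := (hxb.symm).pow_right _
    rw [hc.orderOf_mul_eq_mul_orderOf_of_coprime
      (by rw [hbo, hyo]; exact (Nat.coprime_primes Nat.prime_two hr).2 hr2.symm), hbo, hyo]
  have h2 := h.two_of_order hr hr2 hyb
  haveI := Fact.mk hr
  -- `O` is an `r`-group
  have hTO : (T : Subgroup G) ≤ normalizer (O : Set G) := by
    rw [Subgroup.normalizer_eq_top_iff.2 (inferInstance : O.Normal)]; exact le_top
  have hcop : (Nat.card (T : Subgroup G)).Coprime (Nat.card O) := by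
    obtain ⟨k, hk⟩ := IsPGroup.iff_card.1 T.2
    rw [hk]
    exact (Nat.prime_two.coprime_iff_not_dvd.2 hO2).pow_left k
  have hOr : IsPGroup r O := by
    haveI hsol : Group.IsSolvable O := Cfsg.Agent.S0205.result hodd
    refine IsPGroup.of_card (n := (Nat.card O).primeFactorsList.length)
      (Nat.eq_prime_pow_of_unique_prime_dvd Nat.card_pos.ne' fun {q} hq hqd => ?_)
    by_contra hqr
    haveI := Fact.mk hq
    obtain ⟨Q, hQO, hQq, hQi, hQT⟩ := Cores.InvariantSylow.exists_invariant hTO hcop (Or.inr hsol) q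
    have hQ : Q ≠ ⊥ := by
      rintro rfl
      rw [Subgroup.relIndex_bot_left] at hQi
      exact hQi hqd
    obtain ⟨b', hb', hb'1, z, hz, hz1, hzb⟩ := key Q hQO hQ hQT
    have hqz : q ∣ orderOf z := by
      obtain ⟨k, hk⟩ := hQq ⟨z, hz⟩
      obtain ⟨j, -, hj⟩ := (Nat.dvd_prime_pow hq).1
        (orderOf_dvd_of_pow_eq_one (by simpa using congrArg Subtype.val hk : z ^ q ^ k = 1))
      rcases j with _ | j
      · exact absurd (orderOf_eq_one_iff.1 (by simpa using hj)) hz1
      · rw [hj]; exact dvd_pow_self q (by omega)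
    have hq2 : q ≠ 2 := by rintro rfl; exact hO2 hqd
    rcases h2.primes_of_commute hzb.symm Nat.prime_two hq hq2.symm (Or.inl rfl)
      ((invol_iff.2 ⟨h4.sq_of_mem T.2 hb', hb'1⟩ : orderOf b' = 2).symm ▸ dvd_rfl) hqz with e | e
    · exact hqr e.2
    · exact hq2 e.2
  -- the normalizer of `T` is transitive
  have hnotO : ∀ u ∈ (T : Subgroup G), u ≠ 1 → orderOf (f u) = 2 := fun u hu hu1 => by
    have ho : orderOf u = 2 := invol_iff.2 ⟨h4.sq_of_mem T.2 hu, hu1⟩
    refine ((Nat.dvd_prime Nat.prime_two).1 (ho ▸ orderOf_map_dvd f u)).resolve_left fun e => ?_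
    exact hO2 (ho ▸ Subgroup.orderOf_dvd_natCard O (orderOf_eq_one_iff.1 e))
  have htr : ∀ u ∈ (T : Subgroup G), u ≠ 1 →
      ∃ n ∈ normalizer ((T : Subgroup G) : Set G), n * b * n⁻¹ = u := by
    intro u hu hu1
    obtain ⟨c, hc⟩ := isConj_iff.1 (isConj_invol (h.of_surjective f hf) (h4.of_surjective f hf) hS
      (hnotO b hb hb1) (hnotO u hu hu1))
    obtain ⟨k, rfl⟩ := hf c
    have huo : orderOf u = 2 := invol_iff.2 ⟨h4.sq_of_mem T.2 hu, hu1⟩
    have hwo : orderOf (k * b * k⁻¹) = 2 := (orderOf_conj_eq k b).trans hbo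
    have hmem : k * b * k⁻¹ * u ∈ O := by
      rw [hO, MonoidHom.mem_ker, map_mul, map_mul, map_mul, map_inv, hc, ← map_mul, invol_mul_self huo,
        map_one]
    have hconj : IsConj (k * b * k⁻¹) u := isConj_of_odd hwo huo
      (hodd.of_dvd_nat (Subgroup.orderOf_dvd_natCard O hmem))
    exact h2.fusion T hb hu ((isConj_iff.2 ⟨k, rfl⟩).trans hconj)
  obtain ⟨g, hg, l, hl, hlo, hgo, hfix⟩ := h2.exists_fpf T hb hb1 hT htr
  have hTC := h2.sylow_centralizes T hOr hTO hl hlo
    (by rw [Subgroup.normalizer_eq_top_iff.2 (inferInstance : O.Normal)]; exact mem_top g) hg hgo hfix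
  -- `C(O)` is solvable of odd index
  set C := centralizer (O : Set G) with hC
  haveI : C.Normal := Subgroup.normal_centralizer
  haveI : Group.IsSolvable C := h2.isSolvable_of_primes fun q hq hd =>
    h2.primes_p hyo hq (hd.trans (card_dvd_of_le fun z hz =>
      mem_centralizer_singleton_iff.2 (mem_centralizer_iff.1 hz y (pow_mem hx _)).symm))
  have hoddQ : Odd (Nat.card (G ⧸ C)) := by
    rw [← Subgroup.index_eq_card]
    exact Nat.not_even_iff_odd.1 fun he =>
      T.not_dvd_index (he.two_dvd.trans (Subgroup.index_dvd_of_le hTC))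
  haveI : Group.IsSolvable (G ⧸ C) := Cfsg.Agent.S0205.result hoddQ
  haveI : Group.IsSolvable G := Group.isSolvable_of_ker_le_range C.subtype (QuotientGroup.mk' C) (by
    rw [QuotientGroup.ker_mk', Subgroup.range_subtype])
  haveI : Group.IsSolvable S := Group.isSolvable_of_surjective hf
  exact hS ⟨⟨IsSimpleGroup.comm_iff_isSolvable.2 inferInstance⟩⟩

end Cfsg.Agent.Lib.ThreeOrders
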